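import Cfsg.Agent.Mrg.Omega.S5.Def

section


/-!
# SN.Two / LightL, `V⁺` (helper933, bb #22887 (6)): `W(T')` depends on the pair only

`V` the even sets of `n` letters (`n` odd `≥ 5`), `Q ≤ C(V)`, `N = N_L(Q)` induces `Sym(n)`.
`Pl i j t W` : `t ∈ N` acts as `(i j)`, `W` is the plane `W_R` of a minimal parabolic `R` over `Q⟨t⟩`.

* `Sys` : the hypotheses (no exact group, no `A(G)`, level free);
* `Sys.move` : `t ∈ T - Q` moves `W(T')` modulo `V` (`T` over `ij`, `T'` over `ik`) [(C)];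
* **`Sys.uniq`** : `W(T')` depends on the pair only;
* `Sys.exists_fam` : the family `W i j`; `Fam` its properties;
* **`Fam.norm_N`, `Fam.norm_R`** : `V⁺` is normalised by `N` and by every `R`.
-/

set_option autoImplicit false
set_option linter.unusedSectionVars false

namespace Cfsg.Agent.Omega.NO3S.SN2.VPlus

open Subgroup Cfsg.Agent.Omega.S5.Def Cfsg.Agent.Omega.NSix.Base Cfsg.Agent.Omega.NSix.Basic

universe u

variable {G : Type u} [Group G] {n : ℕ}

/-- `z_i ^ a z_j ^ b`. -/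
def tt (ε : (Fin n → ZMod 2) → G) (i j : Fin n) (a b : ZMod 2) : G :=
  ε (a • Pi.single i 1 + b • Pi.single j 1)

theorem exists_ne {n : ℕ} (hn : 5 ≤ n) (i j k l : Fin n) : ∃ m : Fin n, m ≠ i ∧ m ≠ j ∧ m ≠ k ∧ m ≠ l := by
  obtain ⟨m, hm⟩ : ∃ m : Fin n, m ∉ ({i, j, k, l} : Finset (Fin n)) := by
    by_contra hcon
    push Not at hcon
    have h1 : (Finset.univ : Finset (Fin n)) ⊆ {i, j, k, l} := fun k _ => hcon k
    have h2 := Finset.card_le_card h1
    rw [Finset.card_univ, Fintype.card_fin] at h2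
    have h3 : ({i, j, k, l} : Finset (Fin n)).card ≤ 4 := Finset.card_le_four
    omega
  simp only [Finset.mem_insert, Finset.mem_singleton, not_or] at hm
  exact ⟨m, hm⟩

section tt

variable {V L : Subgroup G} {ε : (Fin n → ZMod 2) → G} (h : EvenSet n V L ε)
include h

theorem tt_mem (i j : Fin n) (a b : ZMod 2) : tt ε i j a b ∈ V := h.mem _

theorem tt_zero (i j : Fin n) : tt ε i j 0 0 = 1 := by
  unfold tt
  rw [zero_smul, zero_smul, add_zero, h.zero]

omit h in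
theorem tt_zero_one (i j : Fin n) : tt ε i j 0 1 = zz ε j := by
  unfold tt zz
  rw [zero_smul, one_smul, zero_add]

omit h in
theorem tt_one_zero (i j : Fin n) : tt ε i j 1 0 = zz ε i := by
  unfold tt zz
  rw [zero_smul, one_smul, add_zero]

theorem tt_one_one (i j : Fin n) : tt ε i j 1 1 = rr ε i j := by
  unfold tt rr zz
  rw [one_smul, one_smul, h.add]

omit h in
theorem tt_symm (i j : Fin n) (a b : ZMod 2) : tt ε i j a b = tt ε j i b a := by
  unfold tt
  rw [add_comm]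

theorem tt_add (i j : Fin n) (a b a' b' : ZMod 2) :
    tt ε i j a b * tt ε i j a' b' = tt ε i j (a + a') (b + b') := by
  unfold tt
  rw [← h.add]
  congr 1
  rw [add_smul, add_smul]
  abel

theorem tt_inv (i j : Fin n) (a b : ZMod 2) : (tt ε i j a b)⁻¹ = tt ε i j a b := h.inv _

omit h in
theorem tt_conj {g : G} {σ : Equiv.Perm (Fin n)} (hg : Acts ε g σ) (i j : Fin n) (a b : ZMod 2) :
    g * tt ε i j a b * g⁻¹ = tt ε (σ i) (σ j) a b := by
  unfold tt
  rw [hg]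
  congr 1
  have e : ∀ k : Fin n, (Pi.single k 1 : Fin n → ZMod 2) ∘ σ.symm = Pi.single (σ k) 1 := by
    intro k
    funext l
    by_cases hl : l = σ k
    · subst hl
      simp
    · have h1 : σ.symm l ≠ k := fun h0 => hl (by rw [← h0, Equiv.apply_symm_apply])
      simp [Function.comp, hl, h1]
  rw [← e i, ← e j]
  rfl

/-- `⟨z_i, z_j⟩ ∩ ⟨z_i, z_k⟩ = ⟨z_i⟩` -/
theorem tt_meet (hn : 5 ≤ n) {i j k : Fin n} (hij : i ≠ j) (hik : i ≠ k) (hjk : j ≠ k) {a b a' b' : ZMod 2}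
    (he : tt ε i j a b = tt ε i k a' b') : b = 0 ∧ b' = 0 := by
  obtain ⟨m, hm1, hm2, hm3, -⟩ := exists_ne hn i j k k
  have key : ∀ x y : ZMod 2, ∀ p q r : Fin n, r ≠ p → r ≠ q →
      (x • Pi.single p 1 + y • Pi.single q 1 : Fin n → ZMod 2) r = 0 := by
    intro x y p q r h1 h2
    simp [h1, h2]
  have k2 : ∀ x y : ZMod 2, ∀ p q : Fin n, p ≠ q →
      (x • Pi.single p 1 + y • Pi.single q 1 : Fin n → ZMod 2) q = y := by
    intro x y p q h1
    simp [h1.symm]
  rcases h.eq_iff.1 he with h1 | h1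
  · have h2 := congrFun h1 j
    have h3 := congrFun h1 k
    rw [k2 a b i j hij, key a' b' i k j hij.symm hjk] at h2
    rw [k2 a' b' i k hik, key a b i j k hik.symm hjk.symm] at h3
    exact ⟨h2, h3.symm⟩
  · exfalso
    have h2 := congrFun h1 m
    rw [key a b i j m hm1 hm2, Pi.add_apply, key a' b' i k m hm1 hm3, zero_add, Pi.one_apply] at h2
    exact zero_ne_one h2

end tt

/-- the group generated by the planes -/
def VP (Pl : Fin n → Fin n → G → Subgroup G → Prop) : Subgroup G :=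
  closure {w | ∃ i j t W, Pl i j t W ∧ w ∈ W}

/-- **The hypotheses** -/
structure Sys (V Q N : Subgroup G) (ε : (Fin n → ZMod 2) → G) (Pl : Fin n → Fin n → G → Subgroup G → Prop) :
    Prop where
  odd : Odd n
  five : 5 ≤ n
  ev : EvenSet n V N ε
  Qc : ∀ q ∈ Q, ∀ v ∈ V, q * v = v * q
  NQ : ∀ g ∈ N, ∀ q ∈ Q, g * q * g⁻¹ ∈ Q
  ex : ∀ i j, i ≠ j → ∃ t W, Pl i j t W
  sym : ∀ i j t W, Pl i j t W → Pl j i t W
  ne : ∀ i j t W, Pl i j t W → i ≠ j
  tN : ∀ i j t W, Pl i j t W → t ∈ N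
  act : ∀ i j t W, Pl i j t W → Acts ε t (Equiv.swap i j)
  VW : ∀ i j t W, Pl i j t W → V ≤ W
  nV : ∀ i j t W, Pl i j t W → ∃ w ∈ W, w ∉ V
  idx : ∀ i j t W, Pl i j t W → ∀ v ∈ W, ∀ w ∈ W, v ∉ V → w ∉ V → v * w ∈ V
  cj : ∀ i j t W, Pl i j t W → ∀ g ∈ N, ∀ σ, Acts ε g σ →
    Pl (σ i) (σ j) (g * t * g⁻¹) (W.map (MulAut.conj g).toMonoidHom)
  comm : ∀ i j t W, Pl i j t W → ∀ k l s W', Pl k l s W' → ∀ v ∈ W, ∀ w ∈ W', v * w = w * v
  sq : ∀ i j t W, Pl i j t W → ∀ v ∈ W, v * v = 1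
  Zc : ∀ i j t W, Pl i j t W → ∀ q ∈ Q, ∀ u ∈ W, ∃ a b, q * u * q⁻¹ * u⁻¹ = tt ε i j a b
  lemQ : ∀ u ∈ VP Pl, ∀ i, (∀ q ∈ Q, q * u * q⁻¹ * u⁻¹ = 1 ∨ q * u * q⁻¹ * u⁻¹ = zz ε i) → u ∈ V
  fix : ∀ i j k t W s W', Pl i j t W → Pl i k s W' → j ≠ k → ∀ u ∈ W', t * u * t⁻¹ * u⁻¹ ∈ W

namespace Sys

variable {V Q N : Subgroup G} {ε : (Fin n → ZMod 2) → G} {Pl : Fin n → Fin n → G → Subgroup G → Prop}
  (h : Sys V Q N ε Pl)
include h

omit h in
theorem mem_VP {i j : Fin n} {t : G} {W : Subgroup G} (hp : Pl i j t W) {w : G} (hw : w ∈ W) : w ∈ VP Pl :=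
  subset_closure ⟨i, j, t, W, hp, hw⟩

theorem VPc : ∀ x ∈ VP Pl, ∀ y ∈ VP Pl, x * y = y * x := by
  have h1 : ∀ x ∈ {w | ∃ i j t W, Pl i j t W ∧ w ∈ W}, ∀ y ∈ {w | ∃ i j t W, Pl i j t W ∧ w ∈ W},
      x * y = y * x := by
    rintro x ⟨i, j, t, W, hp, hx⟩ y ⟨k, l, s, W', hp', hy⟩
    exact h.comm i j t W hp k l s W' hp' x hx y hy
  intro x hx y hy
  have h2 := (Subgroup.isMulCommutative_closure h1).1.1 (⟨x, hx⟩ : Subgroup.closure _) ⟨y, hy⟩
  exact congrArg Subtype.val h2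

theorem V_le : V ≤ VP Pl := by
  obtain ⟨k, hk, -⟩ := exists_ne h.five ⟨0, by have := h.five; omega⟩ ⟨0, by have := h.five; omega⟩
    ⟨0, by have := h.five; omega⟩ ⟨0, by have := h.five; omega⟩
  obtain ⟨t, W, hp⟩ := h.ex _ _ hk
  exact fun v hv => mem_VP hp (h.VW _ _ _ _ hp hv)

theorem Vm {v : G} (hv : v ∈ V) {g : G} (hg : g ∈ N) : g * v * g⁻¹ ∈ V :=
  (mem_normalizer_iff.1 (h.ev.le_normalizer hg) v).1 hv

/-- commutators with `Q` are multiplicative on `V⁺` -/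
theorem cmul {q : G} {x y : G} (hx : x ∈ VP Pl) (hy : y ∈ VP Pl) (hqy : q * y * q⁻¹ ∈ VP Pl) :
    q * (x * y) * q⁻¹ * (x * y)⁻¹ = (q * x * q⁻¹ * x⁻¹) * (q * y * q⁻¹ * y⁻¹) := by
  have h1 : q * y * q⁻¹ * y⁻¹ ∈ VP Pl := (VP Pl).mul_mem hqy ((VP Pl).inv_mem hy)
  have h2 := h.VPc _ h1 _ ((VP Pl).inv_mem hx)
  calc q * (x * y) * q⁻¹ * (x * y)⁻¹ = q * x * q⁻¹ * ((q * y * q⁻¹ * y⁻¹) * x⁻¹) := by group
    _ = q * x * q⁻¹ * (x⁻¹ * (q * y * q⁻¹ * y⁻¹)) := by rw [h2]
    _ = _ := by group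

theorem Qm {i j : Fin n} {t : G} {W : Subgroup G} (hp : Pl i j t W) {q u : G} (hq : q ∈ Q) (hu : u ∈ W) :
    q * u * q⁻¹ ∈ W := by
  obtain ⟨a, b, hab⟩ := h.Zc _ _ _ _ hp q hq u hu
  have h1 : q * u * q⁻¹ = tt ε i j a b * u := by
    rw [← hab]
    group
  rw [h1]
  exact W.mul_mem (h.VW _ _ _ _ hp (tt_mem h.ev _ _ _ _)) hu

theorem sqV {v : G} (hv : v ∈ V) : v * v = 1 := h.ev.sq_mem hv

theorem invV {v : G} (hv : v ∈ V) : v⁻¹ = v := inv_eq_of_mul_eq_one_left (h.sqV hv)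

theorem inv {i j : Fin n} {t : G} {W : Subgroup G} (hp : Pl i j t W) {u : G} (hu : u ∈ W) : u⁻¹ = u :=
  inv_eq_of_mul_eq_one_left (h.sq _ _ _ _ hp u hu)

/-- a plane is `V ∪ aV` -/
theorem eq_of {i j k l : Fin n} {t s : G} {W W' : Subgroup G} (hp : Pl i j t W) (hp' : Pl k l s W') {a b : G}
    (ha : a ∈ W) (haV : a ∉ V) (hb : b ∈ W') (hbV : b ∉ V) (hab : a * b ∈ V) : W = W' := by
  have key : ∀ {i j k l : Fin n} {t s : G} {W W' : Subgroup G}, Pl i j t W → Pl k l s W' → ∀ {a b : G},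
      a ∈ W → a ∉ V → b ∈ W' → b ∉ V → a * b ∈ V → W ≤ W' := by
    intro i j k l t s W W' hp hp' a b ha haV hb hbV hab w hw
    by_cases hwV : w ∈ V
    · exact h.VW _ _ _ _ hp' hwV
    · have h1 := h.idx _ _ _ _ hp w hw a ha hwV haV
      have h2 : w = (w * a) * (a * b) * b⁻¹ * (a * a)⁻¹ := by
        have := h.sq _ _ _ _ hp a ha
        rw [this, inv_one, mul_one]
        calc w = w * (a * a) := by rw [this, mul_one]
          _ = _ := by group
      rw [h2, h.sq _ _ _ _ hp a ha, inv_one, mul_one]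
      exact W'.mul_mem (W'.mul_mem (h.VW _ _ _ _ hp' h1) (h.VW _ _ _ _ hp' hab)) (W'.inv_mem hb)
  refine le_antisymm (key hp hp' ha haV hb hbV hab) (key hp' hp hb hbV ha haV ?_)
  rw [h.comm _ _ _ _ hp' _ _ _ _ hp b hb a ha]
  exact hab

/-- (C) : `t ∈ T - Q` moves `W(T')` modulo `V`. -/
theorem move {i j k : Fin n} {t s : G} {W W' : Subgroup G} (hp : Pl i j t W) (hp' : Pl i k s W') (hjk : j ≠ k)
    {u : G} (hu : u ∈ W') (huV : u ∉ V) : t * u * t⁻¹ * u⁻¹ ∉ V := by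
  intro hc
  apply huV
  have hij := h.ne _ _ _ _ hp
  have hik := h.ne _ _ _ _ hp'
  have htN := h.tN _ _ _ _ hp
  refine h.lemQ u (mem_VP hp' hu) k fun q hq => ?_
  set c := t * u * t⁻¹ * u⁻¹ with hcdef
  have htu : t * u * t⁻¹ = c * u := by rw [hcdef]; group
  obtain ⟨a, b, hab⟩ := h.Zc _ _ _ _ hp' (t⁻¹ * q * t) (by
    have := h.NQ t⁻¹ (N.inv_mem htN) q hq
    rwa [inv_inv] at this) u hu
  obtain ⟨a', b', hab'⟩ := h.Zc _ _ _ _ hp' q hq u hu
  have e1 : q * (t * u * t⁻¹) * q⁻¹ * (t * u * t⁻¹)⁻¹ = tt ε j k a b := by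
    have h1 : q * (t * u * t⁻¹) * q⁻¹ * (t * u * t⁻¹)⁻¹ =
        t * ((t⁻¹ * q * t) * u * (t⁻¹ * q * t)⁻¹ * u⁻¹) * t⁻¹ := by group
    rw [h1, hab, tt_conj (h.act _ _ _ _ hp), Equiv.swap_apply_left, Equiv.swap_apply_of_ne_of_ne hik.symm hjk.symm]
  have e2 : q * (c * u) * q⁻¹ * (c * u)⁻¹ = tt ε i k a' b' := by
    have h1 : q * (c * u) * q⁻¹ * (c * u)⁻¹ = (q * c * q⁻¹ * c⁻¹) * (q * u * q⁻¹ * u⁻¹) :=
      h.cmul (h.V_le hc) (mem_VP hp' hu) (mem_VP hp' (h.Qm hp' hq hu))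
    have h2 : q * c * q⁻¹ * c⁻¹ = 1 := by
      rw [h.Qc q hq c hc]
      group
    rw [h1, h2, one_mul, hab']
  rw [htu] at e1
  have e3 : tt ε k i b' a' = tt ε k j b a := by
    rw [tt_symm k i, tt_symm k j, ← e2, ← e1]
  have h0 := (tt_meet h.ev h.five hik.symm hjk.symm hij e3).1
  rw [hab', h0]
  have hb : b' = 0 ∨ b' = 1 := by
    clear * -
    revert b'
    decide
  rcases hb with rfl | rfl
  · left
    exact tt_zero h.ev _ _
  · right
    exact tt_zero_one _ _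

theorem cjm {i j : Fin n} {t : G} {W : Subgroup G} (hp : Pl i j t W) {g : G} (hg : g ∈ N) {σ : Equiv.Perm (Fin n)}
    (hσ : Acts ε g σ) : Pl (σ i) (σ j) (g * t * g⁻¹) (W.map (MulAut.conj g).toMonoidHom) :=
  h.cj i j t W hp g hg σ hσ

omit h in
theorem mem_map {W : Subgroup G} {g u : G} (hu : u ∈ W) : g * u * g⁻¹ ∈ W.map (MulAut.conj g).toMonoidHom :=
  ⟨u, hu, rfl⟩

theorem uniq' {i j : Fin n} {x x' : G} {Wx Wx' : Subgroup G} (hp : Pl i j x Wx) (hp' : Pl i j x' Wx') :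
    Wx.map (MulAut.conj x').toMonoidHom = Wx' := by
  have hij := h.ne _ _ _ _ hp
  obtain ⟨k, hki, hkj, -, -⟩ := exists_ne h.five i j j j
  obtain ⟨y, Wy, hy⟩ := h.ex i k hki.symm
  obtain ⟨u, hu, huV⟩ := h.nV _ _ _ _ hy
  have hxN := h.tN _ _ _ _ hp
  have hx'N := h.tN _ _ _ _ hp'
  -- `a ∈ W(x)`, `b ∈ W(x')`
  have ha := h.fix _ _ _ _ _ _ _ hp hy hkj.symm u hu
  have haV := h.move hp hy hkj.symm hu huV
  have hb := h.fix _ _ _ _ _ _ _ hp' hy hkj.symm u hu
  have hbV := h.move hp' hy hkj.symm hu huV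
  set a := x * u * x⁻¹ * u⁻¹ with hadef
  set b := x' * u * x'⁻¹ * u⁻¹ with hbdef
  have hq1 := h.cjm hp hx'N (h.act _ _ _ _ hp')
  rw [Equiv.swap_apply_left, Equiv.swap_apply_right] at hq1
  have hq1' := h.sym _ _ _ _ hq1
  have ha' : x' * a * x'⁻¹ ∈ Wx.map (MulAut.conj x').toMonoidHom := mem_map ha
  have ha'V : x' * a * x'⁻¹ ∉ V := fun hc => haV (by
    have := h.Vm hc (N.inv_mem hx'N)
    have e : x'⁻¹ * (x' * a * x'⁻¹) * x'⁻¹⁻¹ = a := by group
    rwa [e] at this)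
  refine h.eq_of hq1' hp' ha' ha'V hb hbV ?_
  -- `c ∈ V`
  have he : Acts ε (x' * x) 1 := by
    have := (h.act _ _ _ _ hp').mul (h.act _ _ _ _ hp)
    rwa [Equiv.swap_mul_self] at this
  have heN : x' * x ∈ N := N.mul_mem hx'N hxN
  have hy' := h.cjm hy heN he
  have hcu : (x' * a * x'⁻¹) * b = (x' * x) * u * (x' * x)⁻¹ * u⁻¹ := by
    rw [hadef, hbdef]
    group
  have hcVP : (x' * a * x'⁻¹) * b ∈ VP Pl := (VP Pl).mul_mem (mem_VP hq1' ha') (mem_VP hp' hb)
  refine h.lemQ _ hcVP i fun q hq => ?_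
  -- first computation
  obtain ⟨α, β, h1⟩ := h.Zc _ _ _ _ hq1' q hq _ ha'
  obtain ⟨α', β', h2⟩ := h.Zc _ _ _ _ hp' q hq _ hb
  have e1 : q * ((x' * a * x'⁻¹) * b) * q⁻¹ * ((x' * a * x'⁻¹) * b)⁻¹ = tt ε i j (α + α') (β + β') := by
    rw [h.cmul (mem_VP hq1' ha') (mem_VP hp' hb) (mem_VP hp' (h.Qm hp' hq hb)), h1, h2, tt_add h.ev]
  -- second computation
  have hu' : (x' * x) * u * (x' * x)⁻¹ ∈ Wy.map (MulAut.conj (x' * x)).toMonoidHom := mem_map hu
  obtain ⟨γ, δ, h3⟩ := h.Zc _ _ _ _ hy' q hq _ hu'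
  obtain ⟨γ', δ', h4⟩ := h.Zc _ _ _ _ hy q hq u⁻¹ (Wy.inv_mem hu)
  have e2 : q * ((x' * a * x'⁻¹) * b) * q⁻¹ * ((x' * a * x'⁻¹) * b)⁻¹ = tt ε i k (γ + γ') (δ + δ') := by
    rw [hcu, h.cmul (mem_VP hy' hu') (mem_VP hy (Wy.inv_mem hu)) (mem_VP hy (h.Qm hy hq (Wy.inv_mem hu))), h3, h4]
    exact tt_add h.ev _ _ _ _ _ _
  have e3 := tt_meet h.ev h.five hij hki.symm hkj.symm (e1.symm.trans e2)
  rw [e1, e3.1]
  have hb : α + α' = 0 ∨ α + α' = 1 := by
    generalize α + α' = w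
    revert w
    decide
  rcases hb with h5 | h5 <;> rw [h5]
  · left
    exact tt_zero h.ev _ _
  · right
    exact tt_one_zero _ _

/-- **`W(T')` depends on the pair only.** -/
theorem uniq {i j : Fin n} {t s : G} {W₁ W₂ : Subgroup G} (h₁ : Pl i j t W₁) (h₂ : Pl i j s W₂) : W₁ = W₂ := by
  have hs := h.tN _ _ _ _ h₂
  have ha : Acts ε s⁻¹ (Equiv.swap i j) := by
    have := (h.act _ _ _ _ h₂).inv
    rwa [Equiv.swap_inv] at this
  have h3 := h.cjm h₁ (N.inv_mem hs) ha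
  rw [Equiv.swap_apply_left, Equiv.swap_apply_right] at h3
  have h4 := h.uniq' (h.sym _ _ _ _ h3) h₂
  rw [← h4, Subgroup.map_map]
  have h5 : (MulAut.conj s).toMonoidHom.comp (MulAut.conj s⁻¹).toMonoidHom = MonoidHom.id G := by
    ext g
    simp only [MulEquiv.toMonoidHom_eq_coe, MonoidHom.coe_comp, MonoidHom.coe_coe, Function.comp_apply,
      MulAut.conj_apply, inv_inv, MonoidHom.id_apply]
    group
  rw [h5, Subgroup.map_id]

/-- (C) : `W(kl) ≤ W(ik) W(il)` -/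
theorem le_sup {i k l : Fin n} {t s r : G} {W₁ W₂ W₃ : Subgroup G} (h₁ : Pl i k t W₁) (h₂ : Pl i l s W₂)
    (h₃ : Pl k l r W₃) : W₃ ≤ W₁ ⊔ W₂ := by
  have hkl := h.ne _ _ _ _ h₃
  have hik := h.ne _ _ _ _ h₁
  have hil := h.ne _ _ _ _ h₂
  obtain ⟨u, hu, huV⟩ := h.nV _ _ _ _ h₂
  have h4 := h.fix _ _ _ _ _ _ _ h₁ h₂ hkl u hu
  have htN := h.tN _ _ _ _ h₁
  have h5 := h.cjm h₂ htN (h.act _ _ _ _ h₁)
  rw [Equiv.swap_apply_left, Equiv.swap_apply_of_ne_of_ne hil.symm hkl.symm] at h5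
  have h6 := h.uniq h5 h₃
  have h7 : t * u * t⁻¹ ∈ W₃ := by
    rw [← h6]
    exact mem_map hu
  have h8 : t * u * t⁻¹ ∉ V := fun hc => huV (by
    have := h.Vm hc (N.inv_mem htN)
    have e : t⁻¹ * (t * u * t⁻¹) * t⁻¹⁻¹ = u := by group
    rwa [e] at this)
  have h9 : t * u * t⁻¹ ∈ W₁ ⊔ W₂ := by
    have e : t * u * t⁻¹ = (t * u * t⁻¹ * u⁻¹) * u := by group
    rw [e]
    exact Subgroup.mul_mem_sup h4 hu
  have h10 : V ≤ W₁ ⊔ W₂ := (h.VW _ _ _ _ h₁).trans le_sup_left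
  intro w hw
  by_cases hwV : w ∈ V
  · exact h10 hwV
  · have h11 := h.idx _ _ _ _ h₃ w hw _ h7 hwV h8
    have e : w = (w * (t * u * t⁻¹)) * (t * u * t⁻¹)⁻¹ := by group
    rw [e]
    exact (W₁ ⊔ W₂).mul_mem (h10 h11) ((W₁ ⊔ W₂).inv_mem h9)

end Sys

/-- the group generated by a family of planes -/
def VF (W : Fin n → Fin n → Subgroup G) : Subgroup G :=
  closure {w | ∃ i j, i ≠ j ∧ w ∈ W i j}

/-- **The family of planes.** -/
structure Fam (V Q N : Subgroup G) (ε : (Fin n → ZMod 2) → G) (W : Fin n → Fin n → Subgroup G) : Prop where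
  odd : Odd n
  five : 5 ≤ n
  ev : EvenSet n V N ε
  Qc : ∀ q ∈ Q, ∀ v ∈ V, q * v = v * q
  NQ : ∀ g ∈ N, ∀ q ∈ Q, g * q * g⁻¹ ∈ Q
  sym : ∀ i j, i ≠ j → W i j = W j i
  VW : ∀ i j, i ≠ j → V ≤ W i j
  nV : ∀ i j, i ≠ j → ∃ w ∈ W i j, w ∉ V
  idx : ∀ i j, i ≠ j → ∀ v ∈ W i j, ∀ w ∈ W i j, v ∉ V → w ∉ V → v * w ∈ V
  cj : ∀ i j, i ≠ j → ∀ g ∈ N, ∀ σ, Acts ε g σ → ∀ w ∈ W i j, g * w * g⁻¹ ∈ W (σ i) (σ j)
  comm : ∀ i j, i ≠ j → ∀ k l, k ≠ l → ∀ v ∈ W i j, ∀ w ∈ W k l, v * w = w * v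
  sq : ∀ i j, i ≠ j → ∀ v ∈ W i j, v * v = 1
  Zc : ∀ i j, i ≠ j → ∀ q ∈ Q, ∀ u ∈ W i j, ∃ a b, q * u * q⁻¹ * u⁻¹ = tt ε i j a b
  /-- (C) -/
  cc : ∀ i k l, i ≠ k → i ≠ l → k ≠ l → W k l ≤ W i k ⊔ W i l

/-- **There is a family.** -/
theorem Sys.exists_fam {V Q N : Subgroup G} {ε : (Fin n → ZMod 2) → G} {Pl : Fin n → Fin n → G → Subgroup G → Prop}
    (h : Sys V Q N ε Pl) : ∃ W : Fin n → Fin n → Subgroup G, Fam V Q N ε W ∧
      (∀ i j t W', Pl i j t W' → W' = W i j) ∧ VF W = VP Pl := by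
  classical
  choose! t W ht using h.ex
  have hW : ∀ i j t W', Pl i j t W' → W' = W i j := fun i j t W' hp => h.uniq hp (ht i j (h.ne _ _ _ _ hp))
  refine ⟨W, ⟨h.odd, h.five, h.ev, h.Qc, h.NQ, ?_, ?_, ?_, ?_, ?_, ?_, ?_, ?_, ?_⟩, hW, ?_⟩
  · intro i j hij
    exact hW _ _ _ _ (h.sym _ _ _ _ (ht i j hij))
  · intro i j hij
    exact h.VW _ _ _ _ (ht i j hij)
  · intro i j hij
    exact h.nV _ _ _ _ (ht i j hij)
  · intro i j hij
    exact h.idx _ _ _ _ (ht i j hij)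
  · intro i j hij g hg σ hσ w hw
    rw [← hW _ _ _ _ (h.cjm (ht i j hij) hg hσ)]
    exact Sys.mem_map hw
  · intro i j hij k l hkl
    exact h.comm _ _ _ _ (ht i j hij) _ _ _ _ (ht k l hkl)
  · intro i j hij
    exact h.sq _ _ _ _ (ht i j hij)
  · intro i j hij
    exact h.Zc _ _ _ _ (ht i j hij)
  · intro i k l hik hil hkl
    exact h.le_sup (ht i k hik) (ht i l hil) (ht k l hkl)
  · apply le_antisymm
    · unfold VF VP
      refine closure_mono ?_
      rintro w ⟨i, j, hij, hw⟩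
      exact ⟨i, j, t i j, W i j, ht i j hij, hw⟩
    · unfold VF VP
      refine closure_mono ?_
      rintro w ⟨i, j, s, W', hp, hw⟩
      exact ⟨i, j, h.ne _ _ _ _ hp, by rwa [← hW _ _ _ _ hp]⟩

namespace Fam

variable {V Q N : Subgroup G} {ε : (Fin n → ZMod 2) → G} {W : Fin n → Fin n → Subgroup G} (h : Fam V Q N ε W)
include h

omit h in
theorem mem_VF {i j : Fin n} (hij : i ≠ j) {w : G} (hw : w ∈ W i j) : w ∈ VF W :=
  subset_closure ⟨i, j, hij, hw⟩

omit h in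
theorem W_le {i j : Fin n} (hij : i ≠ j) : W i j ≤ VF W := fun _ hw => mem_VF hij hw

theorem VFc : ∀ x ∈ VF W, ∀ y ∈ VF W, x * y = y * x := by
  have h1 : ∀ x ∈ {w | ∃ i j, i ≠ j ∧ w ∈ W i j}, ∀ y ∈ {w | ∃ i j, i ≠ j ∧ w ∈ W i j},
      x * y = y * x := by
    rintro x ⟨i, j, hij, hx⟩ y ⟨k, l, hkl, hy⟩
    exact h.comm i j hij k l hkl x hx y hy
  intro x hx y hy
  have h2 := (Subgroup.isMulCommutative_closure h1).1.1 (⟨x, hx⟩ : Subgroup.closure _) ⟨y, hy⟩
  exact congrArg Subtype.val h2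

theorem VF_sq : ∀ x ∈ VF W, x * x = 1 := by
  intro x hx
  refine Subgroup.closure_induction (p := fun x _ => x * x = 1) ?_ ?_ ?_ ?_ hx
  · rintro x ⟨i, j, hij, hx⟩
    exact h.sq i j hij x hx
  · exact one_mul 1
  · intro x y hx hy h1 h2
    have h3 := h.VFc y hy x hx
    calc x * y * (x * y) = x * (y * x) * y := by group
      _ = (x * x) * (y * y) := by rw [h3]; group
      _ = 1 := by rw [h1, h2, one_mul]
  · intro x hx h1
    rw [← mul_inv_rev, h1, inv_one]

/-- `V⁺` is normalised by `N` -/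
theorem norm_N {g : G} (hg : g ∈ N) {w : G} (hw : w ∈ VF W) : g * w * g⁻¹ ∈ VF W := by
  obtain ⟨σ, hσ⟩ := h.ev.perm g hg
  have h1 : VF W ≤ (VF W).comap (MulAut.conj g).toMonoidHom := by
    conv_lhs => unfold VF
    rw [closure_le]
    rintro w ⟨i, j, hij, hw⟩
    exact mem_VF (fun e => hij (σ.injective e)) (h.cj i j hij g hg σ hσ w hw)
  exact h1 hw

/-- `V⁺` is normalised by the parabolics over `ij` -/
theorem norm_R {i j : Fin n} (hij : i ≠ j) {r : G} (h1 : ∀ w ∈ W i j, r * w * r⁻¹ ∈ W i j)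
    (h2 : ∀ k, k ≠ i → k ≠ j → ∀ w ∈ W i k, r * w * r⁻¹ ∈ W i j ⊔ W i k)
    (h3 : ∀ k, k ≠ i → k ≠ j → ∀ w ∈ W j k, r * w * r⁻¹ ∈ W i j ⊔ W j k) {w : G} (hw : w ∈ VF W) :
    r * w * r⁻¹ ∈ VF W := by
  have key : ∀ k l, k ≠ l → W k l ≤ (VF W).comap (MulAut.conj r).toMonoidHom := by
    have a1 : ∀ k, k ≠ i → W i k ≤ (VF W).comap (MulAut.conj r).toMonoidHom := by
      intro k hki w hw
      by_cases hkj : k = j
      · subst hkj
        exact mem_VF hij (h1 w hw)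
      · exact sup_le (W_le hij) (W_le (Ne.symm hki)) (h2 k hki hkj w hw)
    have a2 : ∀ k, k ≠ j → W j k ≤ (VF W).comap (MulAut.conj r).toMonoidHom := by
      intro k hkj w hw
      by_cases hki : k = i
      · subst hki
        rw [h.sym _ _ hij.symm] at hw
        exact mem_VF hij (h1 w hw)
      · exact sup_le (W_le hij) (W_le (Ne.symm hkj)) (h3 k hki hkj w hw)
    intro k l hkl
    by_cases hki : k = i
    · subst hki
      exact a1 l hkl.symm
    · by_cases hli : l = i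
      · subst hli
        rw [h.sym _ _ hkl]
        exact a1 k hkl
      · exact (h.cc i k l (Ne.symm hki) (Ne.symm hli) hkl).trans (sup_le (a1 k hki) (a1 l hli))
  have h4 : VF W ≤ (VF W).comap (MulAut.conj r).toMonoidHom := by
    conv_lhs => unfold VF
    rw [closure_le]
    rintro w ⟨k, l, hkl, hw⟩
    exact key k l hkl hw
  exact h4 hw

end Fam

end Cfsg.Agent.Omega.NO3S.SN2.VPlus

end

section


/-!
# `V⁺`: the subgroups `⟨z_i : i ∈ S⟩`, homomorphisms from `F₂^Λ`, automorphisms of the duads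

* `InZ ε S v` : `v ∈ ⟨z_i : i ∈ S⟩`;
* `exists_hom` : commuting involutions `L a` give a homomorphism `F₂^Λ → G`;
* `exists_perm_of_duads` : an automorphism which permutes the duads of `even(Λ) / 1` permutes the letters.
-/

set_option autoImplicit false
set_option linter.unusedSectionVars false

namespace Cfsg.Agent.Omega.NO3S.SN2.VPlus

open Subgroup Cfsg.Agent.Omega.S5.Def Cfsg.Agent.Omega.NSix.Base Cfsg.Agent.Omega.NSix.Basic

universe u

variable {G : Type u} [Group G] {n : ℕ}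

/-- `v ∈ ⟨z_i : i ∈ S⟩` -/
def InZ (ε : (Fin n → ZMod 2) → G) (S : Set (Fin n)) (v : G) : Prop :=
  ∃ x : Fin n → ZMod 2, (∀ m, m ∉ S → x m = 0) ∧ ε x = v

section InZ

variable {V L : Subgroup G} {ε : (Fin n → ZMod 2) → G} (h : EvenSet n V L ε) {S T : Set (Fin n)} {v w : G}

include h in
theorem InZ.one (S : Set (Fin n)) : InZ ε S 1 := ⟨0, fun _ _ => rfl, h.zero⟩

include h in
theorem InZ.mul (hv : InZ ε S v) (hw : InZ ε S w) : InZ ε S (v * w) := by
  obtain ⟨x, hx, rfl⟩ := hv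
  obtain ⟨y, hy, rfl⟩ := hw
  exact ⟨x + y, fun m hm => by rw [Pi.add_apply, hx m hm, hy m hm, add_zero], h.add x y⟩

theorem InZ.mono (hST : S ⊆ T) (hv : InZ ε S v) : InZ ε T v := by
  obtain ⟨x, hx, rfl⟩ := hv
  exact ⟨x, fun m hm => hx m fun hm' => hm (hST hm'), rfl⟩

theorem InZ.zz {i : Fin n} (hi : i ∈ S) : InZ ε S (zz ε i) :=
  ⟨Pi.single i 1, fun m hm => Pi.single_eq_of_ne (fun e => hm (by rw [e]; exact hi)) 1, rfl⟩

theorem InZ.tt {i j : Fin n} (hi : i ∈ S) (hj : j ∈ S) (a b : ZMod 2) : InZ ε S (tt ε i j a b) := by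
  refine ⟨_, fun m hm => ?_, rfl⟩
  have h1 : m ≠ i := fun e => hm (e ▸ hi)
  have h2 : m ≠ j := fun e => hm (e ▸ hj)
  simp [h1, h2]

include h in
theorem InZ.mem (hv : InZ ε S v) : v ∈ V := by
  obtain ⟨x, -, rfl⟩ := hv
  exact h.mem x

theorem InZ.conj {g : G} {σ : Equiv.Perm (Fin n)} (hg : Acts ε g σ) (hv : InZ ε S v) :
    InZ ε (σ '' S) (g * v * g⁻¹) := by
  obtain ⟨x, hx, rfl⟩ := hv
  refine ⟨x ∘ σ.symm, fun m hm => hx _ fun hm' => hm ⟨_, hm', Equiv.apply_symm_apply _ _⟩, (hg x).symm⟩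

include h in
theorem InZ.inter {m : Fin n} (hS : m ∉ S) (hT : m ∉ T) (hv : InZ ε S v) (hw : InZ ε T v) : InZ ε (S ∩ T) v := by
  obtain ⟨x, hx, rfl⟩ := hv
  obtain ⟨y, hy, hxy⟩ := hw
  have h1 : x = y := by
    rcases h.eq_iff.1 hxy with h1 | h1
    · exact h1.symm
    · have h2 := congrFun h1 m
      rw [hy m hT, Pi.add_apply, hx m hS, zero_add, Pi.one_apply] at h2
      exact absurd h2 zero_ne_one
  subst h1
  refine ⟨x, fun k hk => ?_, rfl⟩
  by_cases h3 : k ∈ S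
  · exact hy k fun h4 => hk ⟨h3, h4⟩
  · exact hx k h3

include h in
theorem InZ.empty (hv : InZ ε (∅ : Set (Fin n)) v) : v = 1 := by
  obtain ⟨x, hx, rfl⟩ := hv
  have : x = 0 := funext fun m => hx m (by simp)
  rw [this, h.zero]

include h in
/-- split off a letter -/
theorem InZ.split {i : Fin n} (hv : InZ ε (insert i S) v) : InZ ε S v ∨ InZ ε S (NSix.Base.zz ε i * v) := by
  classical
  obtain ⟨x, hx, rfl⟩ := hv
  have hb : x i = 0 ∨ x i = 1 := by
    generalize x i = w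
    revert w
    decide
  rcases hb with hb | hb
  · left
    refine ⟨x, fun m hm => ?_, rfl⟩
    by_cases hmi : m = i
    · rw [hmi, hb]
    · exact hx m fun h1 => h1.elim hmi hm
  · right
    refine ⟨Pi.single i 1 + x, fun m hm => ?_, by rw [h.add]; rfl⟩
    by_cases hmi : m = i
    · subst hmi
      rw [Pi.add_apply, Pi.single_eq_same, hb]
      exact CharTwo.add_self_eq_zero 1
    · rw [Pi.add_apply, Pi.single_eq_of_ne hmi, zero_add]
      exact hx m fun h1 => h1.elim hmi hm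

include h in
theorem InZ.pair {i j : Fin n} (hv : InZ ε {i, j} v) : ∃ a b, v = VPlus.tt ε i j a b := by
  rcases hv.split h with h1 | h1
  · have h1' : InZ ε (insert j ∅) v := by simpa using h1
    rcases h1'.split h with h2 | h2
    · exact ⟨0, 0, by rw [tt_zero h, h2.empty h]⟩
    · refine ⟨0, 1, ?_⟩
      rw [tt_zero_one]
      have := h2.empty h
      exact (mul_eq_one_iff_inv_eq.1 this).symm.trans (zz_inv h j)
  · have h1' : InZ ε (insert j ∅) (NSix.Base.zz ε i * v) := by simpa using h1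
    rcases h1'.split h with h2 | h2
    · refine ⟨1, 0, ?_⟩
      rw [tt_one_zero]
      have := h2.empty h
      exact (mul_eq_one_iff_inv_eq.1 this).symm.trans (zz_inv h i)
    · refine ⟨1, 1, ?_⟩
      rw [tt_one_one h]
      have h3 := h2.empty h
      rw [← mul_assoc] at h3
      have h4 : NSix.Base.zz ε j * NSix.Base.zz ε i = rr ε i j := zz_comm h _ _
      rw [h4] at h3
      exact (mul_eq_one_iff_inv_eq.1 h3).symm.trans (rr_inv h i j)

end InZ

/-- commuting involutions -/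
theorem exists_hom {Λ : Type*} [Fintype Λ] [DecidableEq Λ] (L : Λ → G) (hc : ∀ a b, L a * L b = L b * L a)
    (hs : ∀ a, L a * L a = 1) : ∃ Φ : (Λ → ZMod 2) → G, (∀ x y, Φ (x + y) = Φ x * Φ y) ∧
      (∀ a, Φ (Pi.single a 1) = L a) := by
  classical
  let φ : ∀ a : Λ, Multiplicative (ZMod 2) →* G := fun a =>
    { toFun := fun m => if Multiplicative.toAdd m = 0 then 1 else L a
      map_one' := by simp
      map_mul' := by
        intro x y
        have key : ∀ x y : ZMod 2, (if x + y = 0 then (1 : G) else L a) =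
            (if x = 0 then 1 else L a) * (if y = 0 then 1 else L a) := by
          intro x y
          have hx : x = 0 ∨ x = 1 := by revert x; decide
          have hy : y = 0 ∨ y = 1 := by revert y; decide
          have e11 : (1 : ZMod 2) + 1 = 0 := by decide
          rcases hx with rfl | rfl <;> rcases hy with rfl | rfl <;> simp [e11, hs]
        exact key _ _ }
  have hcomm : Pairwise fun a b => ∀ x y, Commute (φ a x) (φ b y) := by
    intro a b _ x y
    change (if Multiplicative.toAdd x = 0 then (1 : G) else L a) * (if Multiplicative.toAdd y = 0 then 1 else L b) =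
      (if Multiplicative.toAdd y = 0 then 1 else L b) * (if Multiplicative.toAdd x = 0 then 1 else L a)
    split_ifs <;> simp [hc a b]
  refine ⟨fun x => MonoidHom.noncommPiCoprod φ hcomm (fun a => Multiplicative.ofAdd (x a)), ?_, ?_⟩
  · intro x y
    rw [← map_mul]
    rfl
  · intro a
    have e : (fun b => Multiplicative.ofAdd ((Pi.single a 1 : Λ → ZMod 2) b)) =
        (Pi.mulSingle a (Multiplicative.ofAdd (1 : ZMod 2)) : Λ → Multiplicative (ZMod 2)) := by
      funext b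
      by_cases hb : b = a
      · subst hb
        simp
      · rw [Pi.single_eq_of_ne hb, Pi.mulSingle_eq_of_ne hb]
        rfl
    change MonoidHom.noncommPiCoprod φ hcomm _ = _
    rw [e, MonoidHom.noncommPiCoprod_mulSingle]
    change (if Multiplicative.toAdd (Multiplicative.ofAdd (1 : ZMod 2)) = 0 then (1 : G) else L a) = L a
    rw [if_neg]
    exact one_ne_zero

/-- **An automorphism which permutes the duads permutes the letters.** -/
theorem exists_perm_of_duads {Λ : Type*} [Finite Λ] (dd : Λ → Λ → G) (hΛ : 4 ≤ Nat.card Λ)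
    (h0 : ∀ a, dd a a = 1) (h1 : ∀ a b c, dd a b * dd b c = dd a c) (hs : ∀ a b, dd a b = dd b a)
    (h2 : ∀ a b c d, a ≠ b → dd a b = dd c d → (a = c ∧ b = d) ∨ (a = d ∧ b = c))
    (h3 : ∀ a b c d p q, a ≠ b → a ≠ c → a ≠ d → b ≠ c → b ≠ d → c ≠ d → p ≠ q → dd a b * dd c d ≠ dd p q)
    (f : G →* G) (hinj : Function.Injective f) (hf : ∀ a b, a ≠ b → ∃ c d, c ≠ d ∧ f (dd a b) = dd c d) :
    ∃ σ : Equiv.Perm Λ, ∀ a b, f (dd a b) = dd (σ a) (σ b) := by
  classical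
  -- meeting duads
  have meet : ∀ a b c, a ≠ b → a ≠ c → b ≠ c → ∃ p q r, p ≠ q ∧ p ≠ r ∧ q ≠ r ∧ f (dd a b) = dd p q ∧
      f (dd a c) = dd p r := by
    intro a b c hab hac hbc
    obtain ⟨p, q, hpq, e1⟩ := hf a b hab
    obtain ⟨r, s, hrs, e2⟩ := hf a c hac
    obtain ⟨t, w, htw, e3⟩ := hf b c hbc
    have e4 : dd p q * dd r s = dd t w := by
      rw [← e1, ← e2, ← e3, ← map_mul, hs a b, h1]
    have hne : dd p q ≠ dd r s := by
      intro h4
      rw [← e1, ← e2] at h4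
      rcases h2 _ _ _ _ hab (hinj h4) with h5 | h5
      · exact hbc h5.2
      · exact hac h5.1
    by_cases c1 : p = r
    · subst c1
      exact ⟨p, q, s, hpq, hrs, fun e => hne (by rw [e]), e1, e2⟩
    by_cases c2 : p = s
    · subst c2
      exact ⟨p, q, r, hpq, hrs.symm, fun e => hne (by rw [e, hs]), e1, by rw [e2, hs]⟩
    by_cases c3 : q = r
    · subst c3
      exact ⟨q, p, s, hpq.symm, hrs, fun e => hne (by rw [e, hs]), by rw [e1, hs], e2⟩
    by_cases c4 : q = s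
    · subst c4
      exact ⟨q, p, r, hpq.symm, hrs.symm, c1, by rw [e1, hs], by rw [e2, hs]⟩
    exact absurd e4 (h3 _ _ _ _ _ _ hpq c1 c2 c3 c4 hrs htw)
  -- the letter
  have lett : ∀ a, ∃ p, ∀ b, a ≠ b → ∃ q, p ≠ q ∧ f (dd a b) = dd p q := by
    intro a
    obtain ⟨b, hb⟩ : ∃ b, b ≠ a := by
      by_contra hcon
      push Not at hcon
      have : Nat.card Λ ≤ 1 := by
        rw [Finite.card_le_one_iff_subsingleton]
        exact ⟨fun x y => (hcon x).trans (hcon y).symm⟩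
      omega
    obtain ⟨c, hca, hcb⟩ : ∃ c, c ≠ a ∧ c ≠ b := by
      by_contra hcon
      push Not at hcon
      have h5 : (Set.univ : Set Λ) ⊆ {a, b} := by
        intro x _
        by_cases hx : x = a
        · exact Or.inl hx
        · exact Or.inr (hcon x hx)
      have h6 := Set.ncard_le_ncard h5 (Set.toFinite _)
      rw [Set.ncard_univ] at h6
      have h7 := Set.ncard_insert_le a {b}
      rw [Set.ncard_singleton] at h7
      omega
    obtain ⟨p, q, r, hpq, hpr, hqr, e1, e2⟩ := meet a b c hb.symm hca.symm hcb.symm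
    refine ⟨p, fun d had => ?_⟩
    by_cases hdb : d = b
    · subst hdb
      exact ⟨q, hpq, e1⟩
    by_cases hdc : d = c
    · subst hdc
      exact ⟨r, hpr, e2⟩
    obtain ⟨p', q', r', hpq', hpr', hqr', e1', e3⟩ := meet a b d hb.symm had (Ne.symm hdb)
    obtain ⟨p'', q'', r'', hpq'', hpr'', hqr'', e2', e3'⟩ := meet a c d hca.symm had (Ne.symm hdc)
    -- `f (ad) = p' r'` with `p' ∈ {p, q}`; `= p'' r''` with `p'' ∈ {p, r}`
    have a1 : p' = p ∨ p' = q := by
      rcases h2 _ _ _ _ hpq' (e1'.symm.trans e1) with h5 | h5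
      · exact Or.inl h5.1
      · exact Or.inr h5.1
    have a2 : p'' = p ∨ p'' = r := by
      rcases h2 _ _ _ _ hpq'' (e2'.symm.trans e2) with h5 | h5
      · exact Or.inl h5.1
      · exact Or.inr h5.1
    have a3 := h2 _ _ _ _ hpr' (e3.symm.trans e3')
    rcases a1 with rfl | rfl
    · exact ⟨r', hpr', e3⟩
    · rcases a2 with rfl | rfl
      · exact ⟨r'', hpr'', e3'⟩
      · -- `f (ad) = q r`, `f(ab) f(ac) f(ad) = 1`
        exfalso
        rcases a3 with h5 | h5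
        · exact hqr h5.1
        · have e4 : f (dd a d) = f (dd b c) := by
            rw [e3, ← h1 b a c, map_mul, hs b a, e1, e2, hs p p', h1, h5.2]
          rcases h2 _ _ _ _ had (hinj e4) with h6 | h6
          · exact hb h6.1.symm
          · exact hca h6.1.symm
  choose σ hσ using lett
  have key : ∀ a b, a ≠ b → σ a ≠ σ b ∧ f (dd a b) = dd (σ a) (σ b) := by
    intro a b hab
    obtain ⟨q, hq, e1⟩ := hσ a b hab
    obtain ⟨q', hq', e2⟩ := hσ b a hab.symm
    rw [hs b a] at e2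
    rcases h2 _ _ _ _ hq (e1.symm.trans e2) with h5 | h5
    · -- `σ a = σ b`: all stars the same
      exfalso
      obtain ⟨c, hca, hcb⟩ : ∃ c, c ≠ a ∧ c ≠ b := by
        by_contra hcon
        push Not at hcon
        have h5 : (Set.univ : Set Λ) ⊆ {a, b} := by
          intro x _
          by_cases hx : x = a
          · exact Or.inl hx
          · exact Or.inr (hcon x hx)
        have h6 := Set.ncard_le_ncard h5 (Set.toFinite _)
        rw [Set.ncard_univ] at h6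
        have h7 := Set.ncard_insert_le a {b}
        rw [Set.ncard_singleton] at h7
        omega
      obtain ⟨r, hr, e3⟩ := hσ a c hca.symm
      obtain ⟨r', hr', e4⟩ := hσ b c hcb.symm
      -- `ab = ac · cb`
      have e5 : dd (σ a) q = dd r r' := by
        rw [← e1, ← h1 a c b, map_mul, hs c b, e3, e4, ← h5.1, hs (σ a) r, h1]
      rcases h2 _ _ _ _ hq e5 with h6 | h6
      · exact hr h6.1
      · exact hr' (h5.1 ▸ h6.1)
    · refine ⟨fun e => hq (e.trans h5.2.symm), ?_⟩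
      rw [e1, h5.2]
  have inj : Function.Injective σ := by
    intro a b hab
    by_contra hne
    exact (key a b hne).1 hab
  refine ⟨Equiv.ofBijective σ (Finite.injective_iff_bijective.1 inj), fun a b => ?_⟩
  by_cases hab : a = b
  · subst hab
    rw [h0, map_one, h0]
  · exact (key a b hab).2

end Cfsg.Agent.Omega.NO3S.SN2.VPlus

end

section


/-!
# SN.Two / LightL, `V⁺ = even(2n) / 1` (helper933 #22887 (6), helper895 #23142 (f8)): the letters

`E i j` (`i ≠ j`): the group of order 8 `{1, x_ij} ∪ {heavy vectors of W_ij outside V_ij}`, `E_ij ∩ V = ⟨z_i, z_j⟩`.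

* `Dt` : the hypotheses on the family;
* `Lt V Q N ε E Φ` : `Φ : F₂^(n × 2) → G` additive, `Φ {(i,0),(i,1)} = z_i`, the duads meeting two blocks `i ≠ j` are the
  elements of `E_ij - V`, the kernel on the even sets is `{0, 1}`, `q ∈ Q` acts as `∏ τ_i ^ f_i`;
* **`Dt.exists_lt`**.
-/

set_option autoImplicit false
set_option linter.unusedSectionVars false

namespace Cfsg.Agent.Omega.NO3S.SN2.VPlus

open Subgroup Cfsg.Agent.Omega.S5.Def Cfsg.Agent.Omega.NSix.Base Cfsg.Agent.Omega.NSix.Basic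

universe u

variable {G : Type u} [Group G] {n : ℕ}

theorem z01 (a : ZMod 2) : a = 0 ∨ a = 1 := by
  revert a
  decide

/-- induction for `F₂^Λ` -/
theorem ind {Λ : Type*} [Fintype Λ] [DecidableEq Λ] {P : (Λ → ZMod 2) → Prop} (h0 : P 0)
    (hadd : ∀ x y, P x → P y → P (x + y)) (hs : ∀ a, P (Pi.single a 1)) (x : Λ → ZMod 2) : P x := by
  have h1 : x = ∑ a, Pi.single a (x a) := (Finset.univ_sum_single x).symm
  rw [h1]
  refine Finset.sum_induction _ P (fun x y => hadd x y) h0 fun a _ => ?_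
  rcases z01 (x a) with h2 | h2
  · rw [h2, Pi.single_zero]
    exact h0
  · rw [h2]
    exact hs a

/-- the pair `{a, b}` -/
def pr {Λ : Type*} [DecidableEq Λ] (a b : Λ) : Λ → ZMod 2 := Pi.single a 1 + Pi.single b 1

theorem pr_comm {Λ : Type*} [DecidableEq Λ] (a b : Λ) : pr a b = pr b a := add_comm _ _

theorem pr_apply {Λ : Type*} [DecidableEq Λ] (a b c : Λ) :
    pr a b c = (if c = a then 1 else 0) + (if c = b then 1 else 0) := by
  unfold pr
  rw [Pi.add_apply, Pi.single_apply, Pi.single_apply]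

/-- **The family `E_ij`.** -/
structure Dt (V Q N : Subgroup G) (ε : (Fin n → ZMod 2) → G) (E : Fin n → Fin n → Subgroup G) : Prop where
  odd : Odd n
  five : 5 ≤ n
  ev : EvenSet n V N ε
  Qc : ∀ q ∈ Q, ∀ v ∈ V, q * v = v * q
  sym : ∀ i j, i ≠ j → E i j = E j i
  EV : ∀ i j, i ≠ j → ∀ x ∈ E i j, x ∈ V → InZ ε {i, j} x
  ZE : ∀ i j, i ≠ j → ∀ x, InZ ε {i, j} x → x ∈ E i j
  ne : ∀ i j, i ≠ j → ∃ u ∈ E i j, u ∉ V
  idx : ∀ i j, i ≠ j → ∀ v ∈ E i j, ∀ w ∈ E i j, v ∉ V → w ∉ V → v * w ∈ V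
  comm : ∀ i j, i ≠ j → ∀ k l, k ≠ l → ∀ v ∈ E i j, ∀ w ∈ E k l, v * w = w * v
  sq : ∀ i j, i ≠ j → ∀ v ∈ E i j, v * v = 1
  cj : ∀ i j, i ≠ j → ∀ g ∈ N, ∀ σ, Acts ε g σ → ∀ w ∈ E i j, g * w * g⁻¹ ∈ E (σ i) (σ j)
  dep : ∀ i j k, i ≠ j → i ≠ k → j ≠ k → ∀ u ∈ E i j, ∀ v ∈ E i k, ∀ w ∈ E j k, u ∉ V → v ∉ V → w ∉ V →
    InZ ε {i, j, k} (u * v * w)
  Zc : ∀ i j, i ≠ j → ∀ q ∈ Q, ∀ u ∈ E i j, InZ ε {i, j} (q * u * q⁻¹ * u⁻¹)
  full : ∀ i j, i ≠ j → ∀ u ∈ E i j, u ∉ V → ∀ x, InZ ε {i, j} x → ∃ q ∈ Q, q * u * q⁻¹ * u⁻¹ = x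

/-- the group generated by the `E_ij` -/
def VE (E : Fin n → Fin n → Subgroup G) : Subgroup G :=
  closure {w | ∃ i j, i ≠ j ∧ w ∈ E i j}

/-- **The letters.** -/
structure Lt (V Q : Subgroup G) (ε : (Fin n → ZMod 2) → G) (E : Fin n → Fin n → Subgroup G)
    (Φ : (Fin n × Bool → ZMod 2) → G) : Prop where
  add : ∀ x y, Φ (x + y) = Φ x * Φ y
  mem : ∀ x, Φ x ∈ VE E
  surj : ∀ v ∈ VE E, ∃ x, ∑ a, x a = 0 ∧ Φ x = v
  blk : ∀ x : Fin n → ZMod 2, Φ (fun a => x a.1) = ε x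
  pr_mem : ∀ i j, i ≠ j → ∀ a b, Φ (pr (i, a) (j, b)) ∈ E i j ∧ Φ (pr (i, a) (j, b)) ∉ V
  pr_surj : ∀ i j, i ≠ j → ∀ u ∈ E i j, u ∉ V → ∃ a b, u = Φ (pr (i, a) (j, b))
  act : ∀ q ∈ Q, ∃ f : Fin n → ZMod 2, ∀ x, ∑ a, x a = 0 →
    q * Φ x * q⁻¹ = Φ x * ε (fun i => f i * (x (i, false) + x (i, true)))
  ker : ∀ x, ∑ a, x a = 0 → Φ x = 1 → x = 0 ∨ x = 1

namespace Dt

variable {V Q N : Subgroup G} {ε : (Fin n → ZMod 2) → G} {E : Fin n → Fin n → Subgroup G} (h : Dt V Q N ε E)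
include h

theorem zzE {i j : Fin n} (hij : i ≠ j) : zz ε i ∈ E i j ∧ zz ε j ∈ E i j :=
  ⟨h.ZE i j hij _ (InZ.zz (by simp)), h.ZE i j hij _ (InZ.zz (by simp))⟩

omit h in
theorem mem_VE {i j : Fin n} (hij : i ≠ j) {w : G} (hw : w ∈ E i j) : w ∈ VE E :=
  subset_closure ⟨i, j, hij, hw⟩

theorem VEc : ∀ x ∈ VE E, ∀ y ∈ VE E, x * y = y * x := by
  have h1 : ∀ x ∈ {w | ∃ i j, i ≠ j ∧ w ∈ E i j}, ∀ y ∈ {w | ∃ i j, i ≠ j ∧ w ∈ E i j},
      x * y = y * x := by
    rintro x ⟨i, j, hij, hx⟩ y ⟨k, l, hkl, hy⟩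
    exact h.comm i j hij k l hkl x hx y hy
  intro x hx y hy
  have h2 := (Subgroup.isMulCommutative_closure h1).1.1 (⟨x, hx⟩ : Subgroup.closure _) ⟨y, hy⟩
  exact congrArg Subtype.val h2

theorem V_le : V ≤ VE E := by
  intro v hv
  obtain ⟨x, rfl⟩ := h.ev.surj v hv
  refine ind (P := fun x => ε x ∈ VE E) ?_ ?_ ?_ x
  · change ε 0 ∈ VE E
    rw [h.ev.zero]
    exact one_mem _
  · intro x y hx hy
    change ε (x + y) ∈ VE E
    rw [h.ev.add]
    exact mul_mem hx hy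
  · intro i
    obtain ⟨j, hj, -⟩ := exists_ne h.five i i i i
    exact mem_VE hj.symm (h.zzE hj.symm).1

theorem n3 : 3 ≤ n := le_trans (by norm_num) h.five

theorem inv {i j : Fin n} (hij : i ≠ j) {u : G} (hu : u ∈ E i j) : u⁻¹ = u :=
  inv_eq_of_mul_eq_one_left (h.sq i j hij u hu)

/-- commutators with `q` are multiplicative on `V⁺` -/
theorem cmul {q x y : G} (hx : x ∈ VE E) (hy : y ∈ VE E) (hqy : q * y * q⁻¹ * y⁻¹ ∈ V) :
    q * (x * y) * q⁻¹ * (x * y)⁻¹ = (q * x * q⁻¹ * x⁻¹) * (q * y * q⁻¹ * y⁻¹) := by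
  have h2 := h.VEc _ (h.V_le hqy) _ ((VE E).inv_mem hx)
  calc q * (x * y) * q⁻¹ * (x * y)⁻¹ = q * x * q⁻¹ * ((q * y * q⁻¹ * y⁻¹) * x⁻¹) := by group
    _ = q * x * q⁻¹ * (x⁻¹ * (q * y * q⁻¹ * y⁻¹)) := by rw [h2]
    _ = _ := by group

theorem cV {q v : G} (hq : q ∈ Q) (hv : v ∈ V) : q * v * q⁻¹ * v⁻¹ = 1 := by
  rw [h.Qc q hq v hv]
  group

/-- the product of elements of `E_ij - V` and `E_ik - V` is not in `V` -/
theorem mul_notMem {i j k : Fin n} (hij : i ≠ j) (hik : i ≠ k) (hjk : j ≠ k) {u v : G} (hu : u ∈ E i j)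
    (hv : v ∈ E i k) (huV : u ∉ V) : u * v ∉ V := by
  intro hc
  obtain ⟨q, hq, hqu⟩ := h.full i j hij u hu huV (zz ε j) (InZ.zz (by simp))
  have h1 := h.Zc i k hik q hq v hv
  have h2 := h.cmul (q := q) (mem_VE hij hu) (mem_VE hik hv) (h1.mem h.ev)
  rw [h.cV hq hc, hqu] at h2
  have h3 : q * v * q⁻¹ * v⁻¹ = zz ε j := by
    rw [← zz_inv h.ev j]
    exact (eq_inv_of_mul_eq_one_right h2.symm)
  have h4 : InZ ε {j} (q * v * q⁻¹ * v⁻¹) := by
    rw [h3]
    exact InZ.zz (by simp)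
  obtain ⟨m, hm1, hm2, hm3, -⟩ := exists_ne h.five i j k k
  have h5 := InZ.inter h.ev (m := m) (by simp [hm1, hm3]) (by simp [hm2]) h1 h4
  have h6 : ({i, k} ∩ {j} : Set (Fin n)) = ∅ := by
    ext x
    simp only [Set.mem_inter_iff, Set.mem_insert_iff, Set.mem_singleton_iff, Set.mem_empty_iff_false, iff_false,
      not_and]
    rintro (rfl | rfl)
    · exact hij
    · exact hjk.symm
  rw [h6] at h5
  have h7 := h5.empty h.ev
  rw [h3] at h7
  exact zz_ne_one h.ev h.n3 j h7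

/-- coherent representatives -/
theorem exists_lett (o : Fin n) : ∃ e : Fin n → G, e o = 1 ∧ (∀ j, o ≠ j → e j ∈ E o j ∧ e j ∉ V) ∧
    (∀ j k, o ≠ j → o ≠ k → j ≠ k → e j * e k ∈ E j k ∧ e j * e k ∉ V) := by
  classical
  obtain ⟨p, hp, -⟩ := exists_ne h.five o o o o
  obtain ⟨ep, hep, hepV⟩ := h.ne o p hp.symm
  have h1 : ∀ j, o ≠ j → p ≠ j → ∃ w ∈ E o j, w ∉ V ∧ ep * w ∈ E p j := by
    intro j hoj hpj
    obtain ⟨w, hw, hwV⟩ := h.ne o j hoj
    obtain ⟨s, hs, hsV⟩ := h.ne p j hpj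
    have h2 := h.dep o p j hp.symm hoj hpj ep hep w hw s hs hepV hwV hsV
    rcases h2.split h.ev with h3 | h3
    · refine ⟨w, hw, hwV, ?_⟩
      have h4 := (E p j).mul_mem (h.ZE p j hpj _ h3) ((E p j).inv_mem hs)
      have e : ep * w * s * s⁻¹ = ep * w := by group
      rwa [e] at h4
    · have hz : zz ε o ∈ E o j := (h.zzE hoj).1
      refine ⟨w * zz ε o, mul_mem hw hz, fun hc => hwV ?_, ?_⟩
      · have := V.mul_mem hc (zz_mem h.ev o)
        rwa [mul_assoc, zz_sq h.ev, mul_one] at this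
      · have h4 := (E p j).mul_mem (h.ZE p j hpj _ h3) ((E p j).inv_mem hs)
        have h5 : zz ε o * (ep * w) = (ep * w) * zz ε o :=
          h.VEc _ (mem_VE hoj hz) _ (mul_mem (mem_VE hp.symm hep) (mem_VE hoj hw))
        have e : zz ε o * (ep * w * s) * s⁻¹ = ep * (w * zz ε o) := by
          calc zz ε o * (ep * w * s) * s⁻¹ = zz ε o * (ep * w) := by group
            _ = _ := by rw [h5, mul_assoc]
        rwa [e] at h4
  choose! w hw hwV hwp using h1
  refine ⟨fun j => if j = o then 1 else if j = p then ep else w j, by simp, ?_, ?_⟩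
  · intro j hoj
    simp only [if_neg hoj.symm]
    by_cases hjp : j = p
    · subst hjp
      simp only [if_true]
      exact ⟨hep, hepV⟩
    · simp only [if_neg hjp]
      exact ⟨hw j hoj (Ne.symm hjp), hwV j hoj (Ne.symm hjp)⟩
  · have key : ∀ j k, o ≠ j → o ≠ k → p ≠ j → p ≠ k → j ≠ k → w j * w k ∈ E j k := by
      intro j k hoj hok hpj hpk hjk
      obtain ⟨s, hs, hsV⟩ := h.ne j k hjk
      have a1 := h.dep o j k hoj hok hjk _ (hw j hoj hpj) _ (hw k hok hpk) s hs (hwV j hoj hpj) (hwV k hok hpk) hsV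
      have nV : ∀ j, o ≠ j → p ≠ j → ep * w j ∉ V := fun j hoj hpj =>
        h.mul_notMem hp.symm hoj hpj hep (hw j hoj hpj) hepV
      have a2 := h.dep p j k hpj hpk hjk _ (hwp j hoj hpj) _ (hwp k hok hpk) s hs (nV j hoj hpj) (nV k hok hpk) hsV
      have e : ep * w j * (ep * w k) * s = w j * w k * s := by
        have b1 : w j * ep = ep * w j := h.VEc _ (mem_VE hoj (hw j hoj hpj)) _ (mem_VE hp.symm hep)
        calc ep * w j * (ep * w k) * s = ep * (w j * ep) * w k * s := by group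
          _ = (ep * ep) * (w j * w k * s) := by rw [b1]; group
          _ = _ := by rw [h.sq o p hp.symm ep hep, one_mul]
      rw [e] at a2
      obtain ⟨m, hm1, hm2, hm3, hm4⟩ := exists_ne h.five o p j k
      have a3 := InZ.inter h.ev (m := m) (by simp [hm1, hm3, hm4]) (by simp [hm2, hm3, hm4]) a1 a2
      have a4 : InZ ε {j, k} (w j * w k * s) := a3.mono (by
        intro x hx
        simp only [Set.mem_inter_iff, Set.mem_insert_iff, Set.mem_singleton_iff] at hx ⊢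
        rcases hx with ⟨hx1 | hx1, hx2 | hx2⟩
        · exact absurd (hx1.symm.trans hx2) hp.symm
        · exact hx2
        · exact hx1
        · exact hx1)
      have a5 := (E j k).mul_mem (h.ZE j k hjk _ a4) ((E j k).inv_mem hs)
      have e2 : w j * w k * s * s⁻¹ = w j * w k := by group
      rwa [e2] at a5
    intro j k hoj hok hjk
    simp only [if_neg hoj.symm, if_neg hok.symm]
    by_cases hjp : j = p
    · subst hjp
      simp only [if_true, if_neg hjk.symm]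
      exact ⟨hwp k hok hjk, h.mul_notMem hoj hok hjk hep (hw k hok hjk) hepV⟩
    · by_cases hkp : k = p
      · subst hkp
        simp only [if_true, if_neg hjk]
        have b1 : w j * ep = ep * w j := h.VEc _ (mem_VE hoj (hw j hoj hjk.symm)) _ (mem_VE hok hep)
        rw [b1, h.sym j k hjk]
        exact ⟨hwp j hoj hjk.symm, h.mul_notMem hok hoj hjk.symm hep (hw j hoj hjk.symm) hepV⟩
      · simp only [if_neg hjp, if_neg hkp]
        exact ⟨key j k hoj hok (Ne.symm hjp) (Ne.symm hkp) hjk,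
          h.mul_notMem hoj hok hjk (hw j hoj (Ne.symm hjp)) (hw k hok (Ne.symm hkp)) (hwV j hoj (Ne.symm hjp))⟩

end Dt

end Cfsg.Agent.Omega.NO3S.SN2.VPlus

end

section


/-!
# SN.Two / LightL, `V⁺ = even(2n) / 1`: existence of the letters

**`Dt.exists_lt : Dt V Q N ε E → ∃ Φ, Lt V Q ε E Φ`.**
-/

set_option autoImplicit false
set_option linter.unusedSectionVars false

namespace Cfsg.Agent.Omega.NO3S.SN2.VPlus

open Subgroup Cfsg.Agent.Omega.S5.Def Cfsg.Agent.Omega.NSix.Base Cfsg.Agent.Omega.NSix.Basic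

universe u

variable {G : Type u} [Group G] {n : ℕ}

theorem two_add (a : ZMod 2) : a + a = 0 := CharTwo.add_self_eq_zero a

theorem sum_fst (x : Fin n → ZMod 2) : ∑ a : Fin n × Bool, x a.1 = 0 := by
  rw [Fintype.sum_prod_type]
  refine Finset.sum_eq_zero fun i _ => ?_
  rw [Fintype.sum_bool]
  exact two_add _

theorem sum_pr {Λ : Type*} [Fintype Λ] [DecidableEq Λ] (a b : Λ) : ∑ c, pr a b c = 0 := by
  simp only [pr, Pi.add_apply]
  rw [Finset.sum_add_distrib]
  simp only [Finset.sum_pi_single', Finset.mem_univ, if_true]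
  exact two_add 1

namespace Dt

variable {V Q N : Subgroup G} {ε : (Fin n → ZMod 2) → G} {E : Fin n → Fin n → Subgroup G} (h : Dt V Q N ε E)
include h

theorem exists_lt : ∃ Φ : (Fin n × Bool → ZMod 2) → G, Lt V Q ε E Φ := by
  classical
  obtain ⟨m0, hm0⟩ : ∃ m0 : Fin n, True := ⟨⟨0, by have := h.five; omega⟩, trivial⟩
  obtain ⟨e, he0, he1, he2⟩ := h.exists_lett m0
  obtain ⟨p, hp, -⟩ := exists_ne h.five m0 m0 m0 m0
  -- the products
  have eij : ∀ i j, i ≠ j → e i * e j ∈ E i j ∧ e i * e j ∉ V := by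
    intro i j hij
    by_cases hi : m0 = i
    · subst hi
      rw [he0, one_mul]
      exact he1 j hij
    · by_cases hj : m0 = j
      · subst hj
        rw [he0, mul_one, h.sym i _ hij]
        exact he1 i hij.symm
      · exact he2 i j hi hj hij
  have eVE : ∀ i, e i ∈ VE E := by
    intro i
    by_cases hi : m0 = i
    · subst hi
      rw [he0]
      exact one_mem _
    · exact mem_VE hi (he1 i hi).1
  have esq : ∀ i, e i * e i = 1 := by
    intro i
    by_cases hi : m0 = i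
    · subst hi
      rw [he0, one_mul]
    · exact h.sq _ _ hi _ (he1 i hi).1
  let ζ : Fin n × Bool → G := fun a => if a.2 then zz ε a.1 else 1
  have ζV : ∀ a, ζ a ∈ V := by
    intro a
    change (if a.2 then zz ε a.1 else 1) ∈ V
    split_ifs
    · exact zz_mem h.ev _
    · exact one_mem _
  have ζVE : ∀ a, ζ a ∈ VE E := fun a => h.V_le (ζV a)
  have ζsq : ∀ a, ζ a * ζ a = 1 := fun a => h.ev.sq_mem (ζV a)
  let ℓ : Fin n × Bool → G := fun a => e a.1 * ζ a
  have ℓVE : ∀ a, ℓ a ∈ VE E := fun a => mul_mem (eVE _) (ζVE _)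
  have ℓc : ∀ a b, ℓ a * ℓ b = ℓ b * ℓ a := fun a b => h.VEc _ (ℓVE a) _ (ℓVE b)
  have ℓs : ∀ a, ℓ a * ℓ a = 1 := by
    intro a
    have h1 := h.VEc _ (ζVE a) _ (eVE a.1)
    calc e a.1 * ζ a * (e a.1 * ζ a) = e a.1 * (ζ a * e a.1) * ζ a := by group
      _ = (e a.1 * e a.1) * (ζ a * ζ a) := by rw [h1]; group
      _ = 1 := by rw [esq, ζsq, one_mul]
  have ℓ2 : ∀ a b, ℓ a * ℓ b = (e a.1 * e b.1) * (ζ a * ζ b) := by
    intro a b
    have h1 := h.VEc _ (ζVE a) _ (eVE b.1)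
    calc e a.1 * ζ a * (e b.1 * ζ b) = e a.1 * (ζ a * e b.1) * ζ b := by group
      _ = _ := by rw [h1]; group
  obtain ⟨Φ, hadd, hsing⟩ := exists_hom ℓ ℓc ℓs
  have hΦ0 : Φ 0 = 1 := by
    have := hadd 0 0
    rw [add_zero] at this
    exact (left_eq_mul.1 this)
  have hpr : ∀ a b, Φ (pr a b) = ℓ a * ℓ b := fun a b => by rw [pr, hadd, hsing, hsing]
  have hmem : ∀ x, Φ x ∈ VE E := by
    refine ind ?_ ?_ ?_
    · rw [hΦ0]
      exact one_mem _
    · intro x y hx hy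
      rw [hadd]
      exact mul_mem hx hy
    · intro a
      rw [hsing]
      exact ℓVE a
  -- blocks
  have hblk : ∀ x : Fin n → ZMod 2, Φ (fun a => x a.1) = ε x := by
    refine ind ?_ ?_ ?_
    · have e1 : (fun a : Fin n × Bool => (0 : Fin n → ZMod 2) a.1) = 0 := rfl
      rw [e1, hΦ0, h.ev.zero]
    · intro x y hx hy
      have e1 : (fun a : Fin n × Bool => (x + y) a.1) = (fun a => x a.1) + fun a => y a.1 := rfl
      rw [e1, hadd, hx, hy, h.ev.add]
    · intro i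
      have e1 : (fun a : Fin n × Bool => (Pi.single i 1 : Fin n → ZMod 2) a.1) = pr (i, false) (i, true) := by
        funext a
        rw [pr_apply]
        obtain ⟨k, b⟩ := a
        by_cases hk : k = i
        · subst hk
          cases b <;> simp
        · simp [hk]
      rw [e1, hpr, ℓ2]
      change e i * e i * (1 * zz ε i) = _
      rw [esq, one_mul, one_mul]
      rfl
  have hζ : ∀ i j a b, InZ ε {i, j} (ζ (i, a) * ζ (j, b)) := by
    intro i j a b
    refine InZ.mul h.ev ?_ ?_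
    · cases a
      · exact InZ.one h.ev _
      · exact InZ.zz (by simp)
    · cases b
      · exact InZ.one h.ev _
      · exact InZ.zz (by simp)
  have hprm : ∀ i j, i ≠ j → ∀ a b, Φ (pr (i, a) (j, b)) ∈ E i j ∧ Φ (pr (i, a) (j, b)) ∉ V := by
    intro i j hij a b
    rw [hpr, ℓ2]
    obtain ⟨h1, h2⟩ := eij i j hij
    refine ⟨mul_mem h1 (h.ZE i j hij _ (hζ i j a b)), fun hc => h2 ?_⟩
    have h3 := V.mul_mem hc (V.inv_mem ((hζ i j a b).mem h.ev))
    have e1 : (e i * e j) * (ζ (i, a) * ζ (j, b)) * (ζ (i, a) * ζ (j, b))⁻¹ = e i * e j := by group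
    rwa [e1] at h3
  have hprs : ∀ i j, i ≠ j → ∀ u ∈ E i j, u ∉ V → ∃ a b, u = Φ (pr (i, a) (j, b)) := by
    intro i j hij u hu huV
    obtain ⟨h1, h2⟩ := eij i j hij
    have h3 := h.idx i j hij _ h1 _ hu h2 huV
    obtain ⟨α, β, h4⟩ := (h.EV i j hij _ (mul_mem h1 hu) h3).pair h.ev
    have h5 : u = (e i * e j) * VPlus.tt ε i j α β := by
      rw [← h4]
      have := h.sq i j hij _ h1
      calc u = (e i * e j * (e i * e j)) * u := by rw [this, one_mul]
        _ = _ := by group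
    refine ⟨α == 1, β == 1, ?_⟩
    rw [hpr, ℓ2, h5]
    congr 1
    rcases z01 α with rfl | rfl <;> rcases z01 β with rfl | rfl
    · rw [tt_zero h.ev]
      exact (one_mul 1).symm
    · rw [tt_zero_one]
      exact (one_mul _).symm
    · rw [tt_one_zero]
      exact (mul_one _).symm
    · rw [tt_one_one h.ev]
      rfl
  have hsurj : ∀ v ∈ VE E, ∃ x, ∑ a, x a = 0 ∧ Φ x = v := by
    intro v hv
    refine Subgroup.closure_induction (p := fun v _ => ∃ x, ∑ a, x a = 0 ∧ Φ x = v) ?_ ?_ ?_ ?_ hv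
    · rintro v ⟨i, j, hij, hv⟩
      by_cases hvV : v ∈ V
      · obtain ⟨x, rfl⟩ := h.ev.surj v hvV
        exact ⟨_, sum_fst x, hblk x⟩
      · obtain ⟨a, b, rfl⟩ := hprs i j hij v hv hvV
        exact ⟨_, sum_pr _ _, rfl⟩
    · exact ⟨0, by simp, hΦ0⟩
    · rintro _ _ _ _ ⟨x, hx, rfl⟩ ⟨y, hy, rfl⟩
      refine ⟨x + y, ?_, hadd x y⟩
      simp only [Pi.add_apply]
      rw [Finset.sum_add_distrib, hx, hy, add_zero]
    · rintro _ _ ⟨x, hx, rfl⟩
      refine ⟨x, hx, ?_⟩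
      have h1 : Φ x * Φ x = 1 := by
        rw [← hadd]
        have : x + x = 0 := funext fun a => two_add _
        rw [this, hΦ0]
      exact (inv_eq_of_mul_eq_one_left h1).symm
  -- the action of `q`
  have hact : ∀ q ∈ Q, ∃ f : Fin n → ZMod 2, ∀ x, ∑ a, x a = 0 →
      q * Φ x * q⁻¹ = Φ x * ε (fun i => f i * (x (i, false) + x (i, true))) := by
    intro q hq
    have h1 : ∀ i, m0 ≠ i → ∃ a b, q * e i * q⁻¹ * (e i)⁻¹ = VPlus.tt ε m0 i a b := fun i hi =>
      (h.Zc m0 i hi q hq _ (he1 i hi).1).pair h.ev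
    choose! a b hab using h1
    have hac : ∀ i, m0 ≠ i → a i = a p := by
      intro i hi
      by_cases hip : i = p
      · rw [hip]
      have h2 : q * (e i * e p) * q⁻¹ * (e i * e p)⁻¹ = VPlus.tt ε m0 i (a i) (b i) * VPlus.tt ε m0 p (a p) (b p) := by
        rw [h.cmul (eVE i) (eVE p) (by rw [hab p hp.symm]; exact tt_mem h.ev _ _ _ _), hab i hi, hab p hp.symm]
      obtain ⟨x, hx, hx2⟩ := h.Zc i p hip q hq _ (eij i p hip).1
      rw [h2] at hx2
      obtain ⟨m, hm1, hm2, hm3, -⟩ := exists_ne h.five m0 i p p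
      unfold VPlus.tt at hx2
      rw [← h.ev.add] at hx2
      rcases h.ev.eq_iff.1 hx2 with h3 | h3
      · have h4 := congrFun h3 m0
        rw [hx m0 (by simp [hi, hp.symm])] at h4
        simp [hi, hp.symm] at h4
        rw [← sub_eq_zero, CharTwo.sub_eq_add]
        exact h4.symm
      · have h4 := congrFun h3 m
        rw [hx m (by simp [hm2, hm3])] at h4
        simp [hm1, hm2, hm3] at h4
    let f : Fin n → ZMod 2 := fun i => if i = m0 then a p else b i
    have hf0 : f m0 = a p := if_pos rfl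
    have hf1 : ∀ i, m0 ≠ i → f i = b i := fun i hi => if_neg hi.symm
    let D : (Fin n × Bool → ZMod 2) → (Fin n → ZMod 2) := fun x m =>
      (∑ c, x c) * (f m0 * (Pi.single m0 1 : Fin n → ZMod 2) m) + f m * (x (m, false) + x (m, true))
    have hD : ∀ x, q * Φ x * q⁻¹ = Φ x * ε (D x) := by
      refine ind ?_ ?_ ?_
      · have e1 : D 0 = 0 := by
          funext m
          simp [D]
        rw [e1, hΦ0, h.ev.zero]
        group
      · intro x y hx hy
        have e1 : D (x + y) = D x + D y := by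
          funext m
          simp only [D, Pi.add_apply]
          rw [Finset.sum_add_distrib]
          ring
        have e2 : ε (D x) * Φ y = Φ y * ε (D x) := h.VEc _ (h.V_le (h.ev.mem _)) _ (hmem y)
        rw [e1, hadd, h.ev.add]
        calc q * (Φ x * Φ y) * q⁻¹ = (q * Φ x * q⁻¹) * (q * Φ y * q⁻¹) := by group
          _ = Φ x * (ε (D x) * Φ y) * ε (D y) := by rw [hx, hy]; group
          _ = _ := by rw [e2]; group
      · rintro ⟨i, c⟩
        have e1 : D (Pi.single (i, c) 1) = fun m => f m0 * (Pi.single m0 1 : Fin n → ZMod 2) m +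
            f m * (Pi.single i 1 : Fin n → ZMod 2) m := by
          funext m
          simp only [D]
          rw [Finset.sum_pi_single', if_pos (Finset.mem_univ _), one_mul]
          congr 2
          by_cases hmi : m = i
          · subst hmi
            cases c <;> simp
          · simp [hmi]
        rw [e1, hsing]
        change q * (e i * ζ (i, c)) * q⁻¹ = e i * ζ (i, c) * _
        by_cases hi : m0 = i
        · subst hi
          have e2 : (fun m => f m0 * (Pi.single m0 1 : Fin n → ZMod 2) m +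
              f m * (Pi.single m0 1 : Fin n → ZMod 2) m) = 0 := by
            funext m
            by_cases hm : m = m0
            · subst hm
              simp [two_add]
            · simp [hm]
          rw [e2, h.ev.zero, mul_one, he0, one_mul, h.Qc q hq _ (ζV _)]
          group
        · have e2 : ε (fun m => f m0 * (Pi.single m0 1 : Fin n → ZMod 2) m +
              f m * (Pi.single i 1 : Fin n → ZMod 2) m) = VPlus.tt ε m0 i (a i) (b i) := by
            unfold VPlus.tt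
            congr 1
            funext m
            rw [hf0, hac i hi]
            simp only [Pi.add_apply, Pi.smul_apply, smul_eq_mul]
            congr 1
            by_cases hm : m = i
            · subst hm
              rw [hf1 m hi]
            · simp [hm]
          rw [e2]
          have e3 : q * e i * q⁻¹ = VPlus.tt ε m0 i (a i) (b i) * e i := by
            rw [← hab i hi]
            group
          have e4 : q * ζ (i, c) * q⁻¹ = ζ (i, c) := by
            rw [h.Qc q hq _ (ζV _)]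
            group
          have e5 : VPlus.tt ε m0 i (a i) (b i) * (e i * ζ (i, c)) =
              (e i * ζ (i, c)) * VPlus.tt ε m0 i (a i) (b i) :=
            h.VEc _ (h.V_le (tt_mem h.ev _ _ _ _)) _ (mul_mem (eVE i) (ζVE _))
          calc q * (e i * ζ (i, c)) * q⁻¹ = (q * e i * q⁻¹) * (q * ζ (i, c) * q⁻¹) := by group
            _ = VPlus.tt ε m0 i (a i) (b i) * (e i * ζ (i, c)) := by rw [e3, e4]; group
            _ = _ := e5
    refine ⟨f, fun x hx => ?_⟩
    rw [hD x]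
    congr 2
    funext m
    simp only [D]
    rw [hx, zero_mul, zero_add]
  refine ⟨Φ, hadd, hmem, hsurj, hblk, hprm, hprs, hact, ?_⟩
  -- the kernel
  intro x hx hΦx
  have hy : ∀ i, x (i, false) + x (i, true) = 0 := by
    by_contra hcon
    push Not at hcon
    obtain ⟨i, hi⟩ := hcon
    have hi1 : x (i, false) + x (i, true) = 1 := (z01 _).resolve_left hi
    -- a letter with `y_j = 0`
    obtain ⟨j, hj⟩ : ∃ j, x (j, false) + x (j, true) = 0 := by
      by_contra hcon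
      push Not at hcon
      have h1 : ∑ a, x a = ∑ i : Fin n, (x (i, false) + x (i, true)) := by
        rw [Fintype.sum_prod_type]
        refine Finset.sum_congr rfl fun i _ => ?_
        simp [add_comm]
      have h2 : ∑ i : Fin n, (x (i, false) + x (i, true)) = ∑ _i : Fin n, (1 : ZMod 2) :=
        Finset.sum_congr rfl fun i _ => (z01 _).resolve_left (hcon i)
      rw [h1, h2, Finset.sum_const, Finset.card_univ, Fintype.card_fin, nsmul_eq_mul, mul_one] at hx
      obtain ⟨k, hk⟩ := h.odd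
      rw [hk] at hx
      push_cast at hx
      have e2 : (2 : ZMod 2) = 0 := by decide
      rw [e2, zero_mul, zero_add] at hx
      exact one_ne_zero hx
    have hij : i ≠ j := by
      rintro rfl
      exact hi hj
    -- `q` with `f_i = 1`
    obtain ⟨hu, huV⟩ := hprm i j hij false false
    obtain ⟨q, hq, hqu⟩ := h.full i j hij _ hu huV (zz ε i) (InZ.zz (by simp))
    obtain ⟨f, hf⟩ := hact q hq
    have h3 := hf (pr (i, false) (j, false)) (sum_pr _ _)
    have h4 : ε (fun m => f m * (pr (i, false) (j, false) (m, false) + pr (i, false) (j, false) (m, true))) =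
        zz ε i := by
      have h5 : Φ (pr (i, false) (j, false)) * ε (fun m => f m * (pr (i, false) (j, false) (m, false) +
          pr (i, false) (j, false) (m, true))) = zz ε i * Φ (pr (i, false) (j, false)) := by
        rw [← h3, ← hqu]
        group
      have h6 := h.VEc _ (h.V_le (zz_mem h.ev i)) _ (hmem (pr (i, false) (j, false)))
      rw [h6] at h5
      exact mul_left_cancel h5
    have hfi : f i = 1 := by
      unfold zz at h4
      obtain ⟨m, hm1, hm2, -⟩ := exists_ne h.five i j j j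
      rcases h.ev.eq_iff.1 h4 with h5 | h5
      · have h6 := congrFun h5 i
        rw [pr_apply, pr_apply] at h6
        simpa [hij] using h6
      · have h6 := congrFun h5 m
        rw [pr_apply, pr_apply] at h6
        simp [hm1, hm2] at h6
    have h7 := hf x hx
    rw [hΦx, mul_one, mul_inv_cancel, one_mul] at h7
    rcases (h.ev.ker _).1 h7.symm with h8 | h8
    · have h9 := congrFun h8 i
      rw [hfi, hi1] at h9
      simp at h9
    · have h9 := congrFun h8 j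
      rw [hj] at h9
      simp at h9
  have hx2 : x = fun a => x (a.1, false) := by
    funext a
    obtain ⟨i, b⟩ := a
    cases b
    · rfl
    · have := hy i
      change x (i, true) = x (i, false)
      exact (eq_of_sub_eq_zero (by rw [CharTwo.sub_eq_add, add_comm]; exact this))
  have h1 : ε (fun i => x (i, false)) = 1 := by
    rw [← hblk]
    have e1 : (fun a : Fin n × Bool => (fun i => x (i, false)) a.1) = x := hx2.symm
    rw [e1, hΦx]
  rcases (h.ev.ker _).1 h1 with h2 | h2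
  · left
    rw [hx2]
    funext a
    exact congrFun h2 a.1
  · right
    rw [hx2]
    funext a
    exact congrFun h2 a.1

end Dt

end Cfsg.Agent.Omega.NO3S.SN2.VPlus

end

section


/-!
# SN.Two / LightL, `V⁺ = even(2n) / 1` (helper895 #23142 (f8)): `N_L(Q)` and the parabolics permute the duads

* `Lt.inj`, `Lt.three` : the duads `Φ (pr a b)`;
* `Du` : `z_i` or an element of `E_ij - V`; `Lt.du_iff`;
* `Rp` : a parabolic `R` over `ij`; `Hvy` : the elements of `E_ij - V` are heavy, heavy vectors of `V` are the `z_j`;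
* **`perm_N`, `perm_R`** : `g ∈ N`, `r ∈ R` permute the letters.
-/

set_option autoImplicit false
set_option linter.unusedSectionVars false

namespace Cfsg.Agent.Omega.NO3S.SN2.VPlus

open Subgroup Cfsg.Agent.Omega.S5.Def Cfsg.Agent.Omega.NSix.Base Cfsg.Agent.Omega.NSix.Basic

universe u

variable {G : Type u} [Group G] {n : ℕ}

/-- `g` centralises `V_ij` -/
def Cx (ε : (Fin n → ZMod 2) → G) (i j : Fin n) (g : G) : Prop :=
  ∀ x : Fin n → ZMod 2, x i = x j → g * ε x = ε x * g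

/-- `z_i` or an element of `E_ij - V` -/
def Du (V : Subgroup G) (ε : (Fin n → ZMod 2) → G) (E : Fin n → Fin n → Subgroup G) (g : G) : Prop :=
  (∃ i, g = zz ε i) ∨ ∃ i j, i ≠ j ∧ g ∈ E i j ∧ g ∉ V

/-- `g` acts on the duads as the permutation `σ` of the letters -/
def ActD (Φ : (Fin n × Bool → ZMod 2) → G) (g : G) (σ : Equiv.Perm (Fin n × Bool)) : Prop :=
  ∀ a b, g * Φ (pr a b) * g⁻¹ = Φ (pr (σ a) (σ b))

/-- a parabolic over `ij` -/
structure Rp (V N : Subgroup G) (ε : (Fin n → ZMod 2) → G) (E : Fin n → Fin n → Subgroup G) (i j : Fin n)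
    (R : Subgroup G) : Prop where
  ne : i ≠ j
  cx : ∀ r ∈ R, Cx ε i j r
  RE : ∀ r ∈ R, ∀ w ∈ E i j, r * w * r⁻¹ ∈ E i j
  K : ∃ K : Subgroup G, K ≤ N ∧ K ≤ R ∧ (∀ r ∈ R, ∀ k ∈ K, r * k * r⁻¹ ∈ K) ∧
    ∀ e ∈ E i j, (∀ k ∈ K, k * e = e * k) → e = 1 ∨ e = rr ε i j
  f5 : ∀ k, k ≠ i → k ≠ j → ∀ r ∈ R, ∀ u ∈ E i k, u ∉ V → ∃ e ∈ E i j, ∃ c, InZ ε {k} c ∧ r * u * r⁻¹ = u * e * c
  f5' : ∀ k, k ≠ i → k ≠ j → ∀ r ∈ R, ∀ u ∈ E j k, u ∉ V → ∃ e ∈ E i j, ∃ c, InZ ε {k} c ∧ r * u * r⁻¹ = u * e * c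
  mv : ∃ r ∈ R, r * zz ε i * r⁻¹ ∉ V

/-- heavy vectors -/
structure Hvy (V : Subgroup G) (ε : (Fin n → ZMod 2) → G) (E : Fin n → Fin n → Subgroup G) : Prop where
  hv : ∀ i j, i ≠ j → ∀ u ∈ E i j, u ∉ V → ∃ x, Cx ε i j x ∧ x * zz ε i * x⁻¹ = u
  fus : ∀ g : G, ∀ i, g * zz ε i * g⁻¹ ∈ V → ∃ j, g * zz ε i * g⁻¹ = zz ε j

theorem pr_self {Λ : Type*} [DecidableEq Λ] (a : Λ) : pr a a = 0 := by
  funext c
  rw [pr_apply]
  exact two_add _

theorem pr_add {Λ : Type*} [DecidableEq Λ] (a b c : Λ) : pr a b + pr b c = pr a c := by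
  funext d
  rw [Pi.add_apply, pr_apply, pr_apply, pr_apply]
  have := two_add (if d = b then (1 : ZMod 2) else 0)
  calc _ = ((if d = a then (1 : ZMod 2) else 0) + (if d = c then (1 : ZMod 2) else 0)) +
      ((if d = b then (1 : ZMod 2) else 0) + (if d = b then (1 : ZMod 2) else 0)) := by ring
    _ = _ := by rw [this, add_zero]

theorem card_lett : Nat.card (Fin n × Bool) = 2 * n := by
  rw [Nat.card_eq_fintype_card, Fintype.card_prod, Fintype.card_fin, Fintype.card_bool, mul_comm]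

theorem exists_out (hn : 5 ≤ n) (S : Finset (Fin n × Bool)) (hS : S.card ≤ 9) : ∃ a, a ∉ S := by
  by_contra hcon
  push Not at hcon
  have h1 : (Finset.univ : Finset (Fin n × Bool)) ⊆ S := fun k _ => hcon k
  have h2 := Finset.card_le_card h1
  rw [Finset.card_univ, Fintype.card_prod, Fintype.card_fin, Fintype.card_bool] at h2
  omega

/-- the pairs -/
theorem pr_eq {Λ : Type*} [DecidableEq Λ] {a b c d : Λ} (hab : a ≠ b) (he : pr a b = pr c d) :
    (a = c ∧ b = d) ∨ (a = d ∧ b = c) := by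
  have h1 := congrFun he a
  have h2 := congrFun he b
  rw [pr_apply, pr_apply] at h1 h2
  simp only [if_true, hab, if_false, hab.symm, add_zero, zero_add] at h1 h2
  by_cases h3 : a = c
  · subst h3
    left
    refine ⟨rfl, ?_⟩
    by_contra h4
    simp [hab.symm, h4] at h2
  · by_cases h4 : a = d
    · subst h4
      right
      refine ⟨rfl, ?_⟩
      by_contra h5
      simp [hab.symm, h5] at h2
    · simp [h3, h4] at h1

section Lt

variable {V Q N : Subgroup G} {ε : (Fin n → ZMod 2) → G} {E : Fin n → Fin n → Subgroup G} (h : Dt V Q N ε E)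
  {Φ : (Fin n × Bool → ZMod 2) → G} (l : Lt V Q ε E Φ)
include h l

theorem Lt.Φ0 : Φ 0 = 1 := by
  have := l.add 0 0
  rw [add_zero] at this
  exact (left_eq_mul.1 this)

theorem Lt.sq (x : Fin n × Bool → ZMod 2) : Φ x * Φ x = 1 := by
  rw [← l.add]
  have : x + x = 0 := funext fun a => two_add _
  rw [this, l.Φ0 h]

theorem Lt.dd_mul (a b c : Fin n × Bool) : Φ (pr a b) * Φ (pr b c) = Φ (pr a c) := by
  rw [← l.add, pr_add]

/-- even sums with small support are determined -/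
theorem Lt.small {x y : Fin n × Bool → ZMod 2} (hx : ∑ a, x a = 0) (hy : ∑ a, y a = 0) (he : Φ x = Φ y)
    (S : Finset (Fin n × Bool)) (hS : S.card ≤ 9) (hxS : ∀ a, a ∉ S → x a = 0) (hyS : ∀ a, a ∉ S → y a = 0) :
    x = y := by
  have h1 : ∑ a, (x + y) a = 0 := by
    simp only [Pi.add_apply]
    rw [Finset.sum_add_distrib, hx, hy, add_zero]
  have h2 : Φ (x + y) = 1 := by rw [l.add, he, l.sq h]
  rcases l.ker _ h1 h2 with h3 | h3
  · funext a
    have h4 := congrFun h3 a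
    rw [Pi.add_apply, Pi.zero_apply] at h4
    exact eq_of_sub_eq_zero (by rw [CharTwo.sub_eq_add]; exact h4)
  · exfalso
    obtain ⟨a, ha⟩ := exists_out h.five S hS
    have h4 := congrFun h3 a
    rw [Pi.add_apply, hxS a ha, hyS a ha, add_zero, Pi.one_apply] at h4
    exact zero_ne_one h4

theorem Lt.inj {a b c d : Fin n × Bool} (hab : a ≠ b) (he : Φ (pr a b) = Φ (pr c d)) :
    (a = c ∧ b = d) ∨ (a = d ∧ b = c) := by
  classical
  refine pr_eq hab (l.small h (sum_pr _ _) (sum_pr _ _) he {a, b, c, d} ?_ ?_ ?_)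
  · exact Finset.card_le_four.trans (by norm_num)
  · intro k hk
    simp only [Finset.mem_insert, Finset.mem_singleton, not_or] at hk
    rw [pr_apply, if_neg hk.1, if_neg hk.2.1, add_zero]
  · intro k hk
    simp only [Finset.mem_insert, Finset.mem_singleton, not_or] at hk
    rw [pr_apply, if_neg hk.2.2.1, if_neg hk.2.2.2, add_zero]

theorem Lt.three {a b c d p q : Fin n × Bool} (hab : a ≠ b) (hac : a ≠ c) (had : a ≠ d) (hbc : b ≠ c)
    (hbd : b ≠ d) (hcd : c ≠ d) : Φ (pr a b) * Φ (pr c d) ≠ Φ (pr p q) := by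
  classical
  intro he
  rw [← l.add] at he
  have h1 : pr a b + pr c d = pr p q := by
    refine l.small h ?_ (sum_pr _ _) he {a, b, c, d, p, q} ?_ ?_ ?_
    · simp only [Pi.add_apply]
      rw [Finset.sum_add_distrib, sum_pr, sum_pr, add_zero]
    · exact Finset.card_le_six.trans (by norm_num)
    · intro k hk
      simp only [Finset.mem_insert, Finset.mem_singleton, not_or] at hk
      rw [Pi.add_apply, pr_apply, pr_apply, if_neg hk.1, if_neg hk.2.1, if_neg hk.2.2.1, if_neg hk.2.2.2.1,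
        add_zero, add_zero]
    · intro k hk
      simp only [Finset.mem_insert, Finset.mem_singleton, not_or] at hk
      rw [pr_apply, if_neg hk.2.2.2.2.1, if_neg hk.2.2.2.2.2, add_zero]
  have key : ∀ k, (k = a ∨ k = b ∨ k = c ∨ k = d) → k = p ∨ k = q := by
    intro k hk
    by_contra hcon
    push Not at hcon
    have h2 := congrFun h1 k
    rw [Pi.add_apply, pr_apply, pr_apply, pr_apply, if_neg hcon.1, if_neg hcon.2, add_zero] at h2
    rcases hk with rfl | rfl | rfl | rfl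
    · simp [hab, hac, had] at h2
    · simp [hab.symm, hbc, hbd] at h2
    · simp [hac.symm, hbc.symm, hcd] at h2
    · simp [had.symm, hbd.symm, hcd.symm] at h2
  have ka := key a (Or.inl rfl)
  have kb := key b (Or.inr (Or.inl rfl))
  have kc := key c (Or.inr (Or.inr (Or.inl rfl)))
  rcases ka with rfl | rfl
  · rcases kb with rfl | rfl
    · exact hab rfl
    · rcases kc with rfl | rfl
      · exact hac rfl
      · exact hbc rfl
  · rcases kb with rfl | rfl
    · rcases kc with rfl | rfl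
      · exact hbc rfl
      · exact hac rfl
    · exact hab rfl

omit h in
theorem Lt.dd_blk (i : Fin n) {a b : Bool} (hab : a ≠ b) : Φ (pr (i, a) (i, b)) = zz ε i := by
  have h1 : pr (i, a) (i, b) = fun c : Fin n × Bool => (Pi.single i 1 : Fin n → ZMod 2) c.1 := by
    funext c
    rw [pr_apply]
    obtain ⟨k, s⟩ := c
    by_cases hk : k = i
    · subst hk
      cases a <;> cases b <;> cases s <;> simp_all
    · simp [hk]
  rw [h1, l.blk]
  rfl

omit h in
theorem Lt.du_iff {g : G} : Du V ε E g ↔ ∃ a b, a ≠ b ∧ g = Φ (pr a b) := by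
  constructor
  · rintro (⟨i, rfl⟩ | ⟨i, j, hij, hg, hgV⟩)
    · exact ⟨(i, false), (i, true), by simp, (l.dd_blk i (by simp)).symm⟩
    · obtain ⟨a, b, rfl⟩ := l.pr_surj i j hij g hg hgV
      exact ⟨(i, a), (j, b), fun e => hij (congrArg Prod.fst e), rfl⟩
  · rintro ⟨⟨i, a⟩, ⟨j, b⟩, hab, rfl⟩
    by_cases hij : i = j
    · subst hij
      left
      exact ⟨i, l.dd_blk i fun e => hab (by rw [e])⟩
    · right
      exact ⟨i, j, hij, l.pr_mem i j hij a b⟩

/-- an element which maps duads to duads permutes the letters -/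
theorem Lt.perm {g : G} (hz : ∀ i, Du V ε E (g * zz ε i * g⁻¹))
    (hE : ∀ i j, i ≠ j → ∀ u ∈ E i j, u ∉ V → Du V ε E (g * u * g⁻¹)) : ∃ σ, ActD Φ g σ := by
  refine exists_perm_of_duads (fun a b => Φ (pr a b)) (by rw [card_lett]; have := h.five; omega)
    (fun a => by
      change Φ (pr a a) = 1
      rw [pr_self, l.Φ0 h])
    (fun a b c => l.dd_mul h a b c) (fun a b => by
      change Φ (pr a b) = Φ (pr b a)
      rw [pr_comm])
    (fun a b c d hab he => l.inj h hab he)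
    (fun a b c d p q h1 h2 h3 h4 h5 h6 _ => l.three h h1 h2 h3 h4 h5 h6)
    (MulAut.conj g).toMonoidHom (MulAut.conj g).injective ?_
  intro a b hab
  have h1 : Du V ε E (Φ (pr a b)) := l.du_iff.2 ⟨a, b, hab, rfl⟩
  have h2 : Du V ε E (g * Φ (pr a b) * g⁻¹) := by
    rcases h1 with ⟨i, hi⟩ | ⟨i, j, hij, hg, hgV⟩
    · rw [hi]
      exact hz i
    · exact hE i j hij _ hg hgV
  obtain ⟨c, d, hcd, he⟩ := l.du_iff.1 h2
  exact ⟨c, d, hcd, he⟩

end Lt

section act

variable {V Q N : Subgroup G} {ε : (Fin n → ZMod 2) → G} {E : Fin n → Fin n → Subgroup G} (h : Dt V Q N ε E)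
include h

theorem Dt.Vm {v : G} (hv : v ∈ V) {g : G} (hg : g ∈ N) : g * v * g⁻¹ ∈ V :=
  (mem_normalizer_iff.1 (h.ev.le_normalizer hg) v).1 hv

/-- `N` permutes the duads -/
theorem perm_N {Φ : (Fin n × Bool → ZMod 2) → G} (l : Lt V Q ε E Φ) {g : G} (hg : g ∈ N) : ∃ σ, ActD Φ g σ := by
  obtain ⟨τ, hτ⟩ := h.ev.perm g hg
  refine l.perm h (fun i => Or.inl ⟨τ i, zz_conj hτ i⟩) fun i j hij u hu huV => ?_
  refine Or.inr ⟨τ i, τ j, fun e => hij (τ.injective e), h.cj i j hij g hg τ hτ u hu, fun hc => huV ?_⟩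
  have := h.Vm hc (N.inv_mem hg)
  have e : g⁻¹ * (g * u * g⁻¹) * g⁻¹⁻¹ = u := by group
  rwa [e] at this

omit h in
theorem Cx.zz {i j m : Fin n} {g : G} (hg : Cx ε i j g) (hi : m ≠ i) (hj : m ≠ j) :
    g * NSix.Base.zz ε m * g⁻¹ = NSix.Base.zz ε m := by
  rw [NSix.Base.zz, hg _ (by simp [hi.symm, hj.symm])]
  group

omit h in
theorem Cx.inz {i j : Fin n} {S : Set (Fin n)} {g v : G} (hg : Cx ε i j g) (hi : i ∉ S) (hj : j ∉ S)
    (hv : InZ ε S v) : g * v * g⁻¹ = v := by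
  obtain ⟨x, hx, rfl⟩ := hv
  rw [hg x (by rw [hx i hi, hx j hj])]
  group

variable (hh : Hvy V ε E)
include hh

/-- `u z_m` is light (`u ∈ E_ij - V`, `m ≠ i, j`) -/
theorem light2 {i j m : Fin n} (hij : i ≠ j) (hmi : m ≠ i) (hmj : m ≠ j) {u : G} (hu : u ∈ E i j) (huV : u ∉ V)
    (g : G) (k : Fin n) : g * zz ε k * g⁻¹ ≠ u * zz ε m := by
  intro he
  obtain ⟨x, hx, hxu⟩ := hh.hv i j hij u hu huV
  have h1 : (x⁻¹ * g) * zz ε k * (x⁻¹ * g)⁻¹ = rr ε i m := by
    have h2 := hx.zz hmi hmj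
    calc (x⁻¹ * g) * zz ε k * (x⁻¹ * g)⁻¹ = x⁻¹ * (g * zz ε k * g⁻¹) * x := by group
      _ = x⁻¹ * (u * (x * zz ε m * x⁻¹)) * x := by rw [he, h2]
      _ = zz ε i * zz ε m := by rw [← hxu]; group
  obtain ⟨l, hl⟩ := hh.fus (x⁻¹ * g) k (by rw [h1]; exact rr_mem h.ev _ _)
  rw [h1] at hl
  obtain ⟨p, hp1, hp2, hp3, -⟩ := exists_ne h.five i m l l
  unfold rr zz at hl
  rw [← h.ev.add] at hl
  rcases h.ev.eq_iff.1 hl with h3 | h3
  · have a1 := congrFun h3 i
    have a2 := congrFun h3 m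
    by_cases hli : l = i
    · subst hli
      simp [hmi] at a2
    · simp [hmi.symm, Ne.symm hli] at a1
  · have a1 := congrFun h3 p
    simp [hp1, hp2, hp3] at a1

/-- `u x_ij` is not heavy (`u ∈ E_cd - V`, `{c, d} ∩ {i, j} = ∅`) -/
theorem light3 {i j c d : Fin n} (hij : i ≠ j) (hcd : c ≠ d) (hci : c ≠ i) (hcj : c ≠ j) (hdi : d ≠ i) (hdj : d ≠ j)
    {u : G} (hu : u ∈ E c d) (huV : u ∉ V) (g : G) (k : Fin n) : g * zz ε k * g⁻¹ ≠ u * rr ε i j := by
  intro he
  obtain ⟨x, hx, hxu⟩ := hh.hv c d hcd u hu huV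
  have h1 : (x⁻¹ * g) * zz ε k * (x⁻¹ * g)⁻¹ = zz ε c * rr ε i j := by
    have h2 : x * rr ε i j * x⁻¹ = rr ε i j := by
      refine hx.inz (S := {i, j}) (by simp [hci, hcj]) (by simp [hdi, hdj]) ?_
      exact InZ.mul h.ev (InZ.zz (by simp)) (InZ.zz (by simp))
    calc (x⁻¹ * g) * zz ε k * (x⁻¹ * g)⁻¹ = x⁻¹ * (g * zz ε k * g⁻¹) * x := by group
      _ = x⁻¹ * (u * (x * rr ε i j * x⁻¹)) * x := by rw [he, h2]
      _ = _ := by rw [← hxu]; group
  obtain ⟨l, hl⟩ := hh.fus (x⁻¹ * g) k (by rw [h1]; exact V.mul_mem (zz_mem h.ev _) (rr_mem h.ev _ _))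
  rw [h1] at hl
  obtain ⟨p, hp1, hp2, hp3, hp4⟩ := exists_ne h.five i j c l
  unfold rr zz at hl
  rw [← h.ev.add, ← h.ev.add] at hl
  rcases h.ev.eq_iff.1 hl with h3 | h3
  · have a1 := congrFun h3 i
    have a2 := congrFun h3 j
    by_cases hli : l = i
    · subst hli
      simp [hij.symm, hcj.symm] at a2
    · simp [hij, hci.symm, Ne.symm hli] at a1
  · have a1 := congrFun h3 p
    simp [hp1, hp2, hp3, hp4] at a1

theorem mul_V {u v : G} (huV : u ∉ V) (hv : v ∈ V) : u * v ∉ V := fun hc => huV (by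
  have := V.mul_mem hc (V.inv_mem hv)
  rwa [mul_inv_cancel_right] at this)

/-- (f8) (i) -/
theorem mixed {i j k : Fin n} (hij : i ≠ j) (hki : k ≠ i) (hkj : k ≠ j) {r u : G} (hu : u ∈ E i k) (huV : u ∉ V)
    (he : ∃ e ∈ E i j, ∃ c, InZ ε {k} c ∧ r * u * r⁻¹ = u * e * c) :
    (r * u * r⁻¹ ∈ E i k ∨ r * u * r⁻¹ ∈ E j k) ∧ r * u * r⁻¹ ∉ V := by
  obtain ⟨e, he, c, hc, hre⟩ := he
  obtain ⟨x, hx, hxu⟩ := hh.hv i k hki.symm u hu huV
  have hcV := hc.mem h.ev
  have heavy : ∀ w m, w ∈ E m k → w ∉ V → (m = i ∨ m = j) → ∀ s, (s = i ∨ s = j) → s ≠ m →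
      r * u * r⁻¹ = w * zz ε s → False := by
    intro w m hw hwV hm s hs hsm hrw
    have hmk : m ≠ k := by rcases hm with rfl | rfl <;> [exact hki.symm; exact hkj.symm]
    have hsk : s ≠ k := by rcases hs with rfl | rfl <;> [exact hki.symm; exact hkj.symm]
    refine light2 h hh hmk hsm hsk hw hwV (r * x) i ?_
    rw [← hrw, ← hxu]
    group
  by_cases heV : e ∈ V
  · have h1 : InZ ε (insert j {i}) e := by
      have := h.EV i j hij e he heV
      rwa [Set.pair_comm] at this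
    rcases h1.split h.ev with h2 | h2
    · refine ⟨Or.inl ?_, ?_⟩
      · rw [hre]
        exact mul_mem (mul_mem hu (h.ZE i k hki.symm _ (h2.mono (by simp)))) (h.ZE i k hki.symm _ (hc.mono (by simp)))
      · rw [hre, mul_assoc]
        exact mul_V h hh huV (V.mul_mem heV hcV)
    · exfalso
      have hw1 : zz ε j * e * c ∈ V := V.mul_mem (h2.mem h.ev) hcV
      refine heavy (u * (zz ε j * e * c)) i ?_ (mul_V h hh huV hw1) (Or.inl rfl) j (Or.inr rfl) hij.symm ?_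
      · exact mul_mem hu (mul_mem (h.ZE i k hki.symm _ (h2.mono (by simp))) (h.ZE i k hki.symm _ (hc.mono (by simp))))
      · have h3 : zz ε j * (e * c) = (e * c) * zz ε j := h.ev.comm_mem (zz_mem h.ev _) (V.mul_mem heV hcV)
        calc r * u * r⁻¹ = u * (e * c) := by rw [hre]; group
          _ = u * ((e * c) * zz ε j) * (zz ε j)⁻¹ := by group
          _ = u * (zz ε j * (e * c)) * zz ε j := by rw [← h3, zz_inv h.ev]
          _ = _ := by group
  · obtain ⟨s, hs, hsV⟩ := h.ne j k hkj.symm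
    have h1 := h.dep i j k hij hki.symm hkj.symm e he u hu s hs heV huV hsV
    have hue : u * e = e * u := h.comm i k hki.symm i j hij u hu e he
    have hc' : c ∈ E j k := h.ZE j k hkj.symm _ (hc.mono (by simp))
    rcases h1.split h.ev with h2 | h2
    · have h3 : u * e * c = (e * u * s) * s⁻¹ * c := by rw [hue]; group
      have h4 : r * u * r⁻¹ ∈ E j k := by
        rw [hre, h3]
        exact mul_mem (mul_mem (h.ZE j k hkj.symm _ h2) (inv_mem hs)) hc'
      refine ⟨Or.inr h4, ?_⟩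
      rw [hre]
      exact mul_V h hh (h.mul_notMem hki.symm hij hkj hu he huV) hcV
    · exfalso
      have h3 : u * e * c = (zz ε i * (e * u * s)) * s⁻¹ * c * zz ε i := by
        have a1 : s⁻¹ * c * zz ε i ∈ VE E := mul_mem (mul_mem (inv_mem (Dt.mem_VE hkj.symm hs))
          (Dt.mem_VE hkj.symm hc')) (h.V_le (zz_mem h.ev i))
        have a2 := h.VEc _ (h.V_le (zz_mem h.ev i)) _ (mul_mem (Dt.mem_VE hij he) (mul_mem
          (Dt.mem_VE hki.symm hu) (h.V_le hcV)))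
        calc u * e * c = (zz ε i * zz ε i) * (e * (u * c)) := by rw [zz_sq h.ev, one_mul, hue]; group
          _ = zz ε i * (zz ε i * (e * (u * c))) := by group
          _ = zz ε i * ((e * (u * c)) * zz ε i) := by rw [a2]
          _ = _ := by group
      have h4 : (zz ε i * (e * u * s)) * s⁻¹ * c ∉ V := by
        intro hc2
        have h5 := V.mul_mem hc2 (zz_mem h.ev i)
        rw [← h3] at h5
        exact mul_V h hh (h.mul_notMem hki.symm hij hkj hu he huV) hcV h5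
      refine heavy _ j ?_ h4 (Or.inr rfl) i (Or.inl rfl) hij ?_
      · exact mul_mem (mul_mem (h.ZE j k hkj.symm _ h2) (inv_mem hs)) hc'
      · rw [hre, h3]

end act

end Cfsg.Agent.Omega.NO3S.SN2.VPlus

end

section


/-!
# SN.Two / LightL, `V⁺ = even(2n) / 1` (helper895 #23142 (f8)): the parabolics permute the duads

* `disj` : (f8) (ii), `R` over `ij` normalises `E_cd` for `{c, d}` disjoint from `{i, j}`;
* **`perm_R`**; `Rp.swap`.
-/

set_option autoImplicit false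
set_option linter.unusedSectionVars false

namespace Cfsg.Agent.Omega.NO3S.SN2.VPlus

open Subgroup Cfsg.Agent.Omega.S5.Def Cfsg.Agent.Omega.NSix.Base Cfsg.Agent.Omega.NSix.Basic

universe u

variable {G : Type u} [Group G] {n : ℕ} {V Q N : Subgroup G} {ε : (Fin n → ZMod 2) → G}
  {E : Fin n → Fin n → Subgroup G} (h : Dt V Q N ε E)

include h in
/-- (f8) (ii), first half -/
theorem disjA {i j c d : Fin n} {R : Subgroup G} (hR : Rp V N ε E i j R) (hcd : c ≠ d) (hci : c ≠ i) (hcj : c ≠ j)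
    (hdi : d ≠ i) (hdj : d ≠ j) {r : G} (hr : r ∈ R) {y : G} (hy : y ∈ E c d) (hyV : y ∉ V) :
    ∃ e ∈ E i j, ∃ f, InZ ε {c, d} f ∧ r * y * r⁻¹ = y * e * f := by
  have hij := hR.ne
  obtain ⟨w, hw, hwV⟩ := h.ne i c hci.symm
  obtain ⟨w', hw', hwV'⟩ := h.ne i d hdi.symm
  obtain ⟨e1, he1, c1, hc1, a1⟩ := hR.f5 c hci hcj r hr w hw hwV
  obtain ⟨e2, he2, c2, hc2, a2⟩ := hR.f5 d hdi hdj r hr w' hw' hwV'
  have h1 := h.dep i c d hci.symm hdi.symm hcd w hw w' hw' y hy hwV hwV' hyV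
  -- the membership in `V⁺`
  have mw := Dt.mem_VE hci.symm hw
  have mw' := Dt.mem_VE hdi.symm hw'
  have my := Dt.mem_VE hcd hy
  have me1 := Dt.mem_VE hij he1
  have me2 := Dt.mem_VE hij he2
  have mc1 := h.V_le (hc1.mem h.ev)
  have mc2 := h.V_le (hc2.mem h.ev)
  -- `ζ := w w' y`, `r ζ r⁻¹ = ζ e3`
  obtain ⟨e3, he3, a3⟩ : ∃ e3 ∈ E i j, r * (w * w' * y) * r⁻¹ = (w * w' * y) * e3 := by
    rcases h1.split h.ev with h2 | h2
    · refine ⟨1, one_mem _, ?_⟩
      rw [mul_one]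
      exact (hR.cx r hr).inz (by simp [hci.symm, hdi.symm]) (by simp [hcj.symm, hdj.symm]) h2
    · have h3 := (hR.cx r hr).inz (S := {c, d}) (by simp [hci.symm, hdi.symm]) (by simp [hcj.symm, hdj.symm]) h2
      have hzi := (h.zzE hij).1
      have h4 := hR.RE r hr _ hzi
      refine ⟨zz ε i * (r * zz ε i * r⁻¹), mul_mem hzi h4, ?_⟩
      have m1 : w * w' * y ∈ VE E := mul_mem (mul_mem mw mw') my
      have m2 := Dt.mem_VE hij h4
      have a4 : (r * zz ε i * r⁻¹) * (zz ε i * (w * w' * y)) = (zz ε i * (w * w' * y)) * (r * zz ε i * r⁻¹) :=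
        h.VEc _ m2 _ (mul_mem (Dt.mem_VE hij hzi) m1)
      have a5 := h.VEc _ (Dt.mem_VE hij hzi) _ m1
      calc r * (w * w' * y) * r⁻¹ = r * ((zz ε i * zz ε i) * (w * w' * y)) * r⁻¹ := by
            rw [zz_sq h.ev, one_mul]
        _ = (r * zz ε i * r⁻¹) * (r * (zz ε i * (w * w' * y)) * r⁻¹) := by group
        _ = (zz ε i * (w * w' * y)) * (r * zz ε i * r⁻¹) := by rw [h3, a4]
        _ = (w * w' * y) * zz ε i * (r * zz ε i * r⁻¹) := by rw [a5]
        _ = _ := by group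
  refine ⟨e1 * e2 * e3, mul_mem (mul_mem he1 he2) he3, c1 * c2,
    InZ.mul h.ev (hc1.mono (by simp)) (hc2.mono (by simp)), ?_⟩
  -- compute in the abelian group `V⁺`
  have b1 : r * y * r⁻¹ = (r * w' * r⁻¹)⁻¹ * (r * w * r⁻¹)⁻¹ * (r * (w * w' * y) * r⁻¹) := by group
  have hsq : ∀ x ∈ VE E, x * x = 1 := by
    intro x hx
    refine Subgroup.closure_induction (p := fun x _ => x * x = 1) ?_ ?_ ?_ ?_ hx
    · rintro x ⟨i, j, hij, hx⟩
      exact h.sq i j hij x hx
    · exact one_mul 1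
    · intro x y hx hy h1 h2
      have h3 := h.VEc y hy x hx
      calc x * y * (x * y) = x * (y * x) * y := by group
        _ = (x * x) * (y * y) := by rw [h3]; group
        _ = 1 := by rw [h1, h2, one_mul]
    · intro x hx h1
      rw [← mul_inv_rev, h1, inv_one]
  have hinv : ∀ x ∈ VE E, x⁻¹ = x := fun x hx => inv_eq_of_mul_eq_one_left (hsq x hx)
  have m1 : w * e1 * c1 ∈ VE E := mul_mem (mul_mem mw me1) mc1
  have m2 : w' * e2 * c2 ∈ VE E := mul_mem (mul_mem mw' me2) mc2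
  have m3 := Dt.mem_VE hij he3
  rw [b1, a1, a2, a3, hinv _ m1, hinv _ m2]
  have cc := h.VEc
  calc w' * e2 * c2 * (w * e1 * c1) * (w * w' * y * e3) =
      (w * w') * (w' * e2 * c2 * (w * e1 * c1)) * (y * e3) := by
        have := cc _ (mul_mem m2 m1) _ (mul_mem mw mw')
        calc _ = (w' * e2 * c2 * (w * e1 * c1)) * (w * w') * (y * e3) := by group
          _ = _ := by rw [this]
    _ = w * w' * (w' * (e2 * c2 * (w * e1 * c1))) * (y * e3) := by group
    _ = w * (w' * w') * ((e2 * c2) * (w * (e1 * c1))) * (y * e3) := by group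
    _ = w * ((e2 * c2) * w) * (e1 * c1) * (y * e3) := by rw [hsq _ mw']; group
    _ = w * (w * (e2 * c2)) * (e1 * c1) * (y * e3) := by rw [cc _ (mul_mem me2 mc2) _ mw]
    _ = (w * w) * ((e2 * c2) * (e1 * c1)) * y * e3 := by group
    _ = ((e2 * c2) * (e1 * c1)) * y * e3 := by rw [hsq _ mw, one_mul]
    _ = y * ((e2 * c2) * (e1 * c1)) * e3 := by
        rw [cc _ (mul_mem (mul_mem me2 mc2) (mul_mem me1 mc1)) _ my]
    _ = y * (e2 * (c2 * e1) * c1 * e3) := by group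
    _ = y * (e2 * (e1 * c2) * c1 * e3) := by rw [cc _ mc2 _ me1]
    _ = y * ((e2 * e1) * ((c2 * c1) * e3)) := by group
    _ = y * ((e1 * e2) * (e3 * (c1 * c2))) := by
        rw [cc _ me2 _ me1, cc _ (mul_mem mc2 mc1) _ m3, cc _ mc2 _ mc1]
    _ = _ := by group

section heavy

variable (hh : Hvy V ε E)
include h hh

/-- **(f8) (ii)** -/
theorem disj {i j c d : Fin n} {R : Subgroup G} (hR : Rp V N ε E i j R) (hcd : c ≠ d) (hci : c ≠ i) (hcj : c ≠ j)
    (hdi : d ≠ i) (hdj : d ≠ j) {r : G} (hr : r ∈ R) {y : G} (hy : y ∈ E c d) (hyV : y ∉ V) :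
    r * y * r⁻¹ ∈ E c d ∧ r * y * r⁻¹ ∉ V := by
  have hij := hR.ne
  obtain ⟨e, he, f, hf, hre⟩ := disjA h hR hcd hci hcj hdi hdj hr hy hyV
  have my := Dt.mem_VE hcd hy
  have me := Dt.mem_VE hij he
  have mf := h.V_le (hf.mem h.ev)
  have cc := h.VEc
  obtain ⟨K, hKN, hKR, hKn, hKc⟩ := hR.K
  -- `K` fixes `y ⟨z_c, z_d⟩`
  have k1 : ∀ k ∈ K, ∃ g, InZ ε {c, d} g ∧ k * y * k⁻¹ = y * g := by
    intro k hk
    obtain ⟨σ, hσ⟩ := h.ev.perm k (hKN hk)
    have hfx : ∀ m, m ≠ i → m ≠ j → σ m = m := fun m hmi hmj =>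
      (h.ev.fixes_iff h.n3 hσ m).1 (hR.cx k (hKR hk) _ (by simp [hmi.symm, hmj.symm]))
    have h1 := h.cj c d hcd k (hKN hk) σ hσ y hy
    rw [hfx c hci hcj, hfx d hdi hdj] at h1
    have h1V : k * y * k⁻¹ ∉ V := fun hc => hyV (by
      have := h.Vm hc (N.inv_mem (hKN hk))
      have e : k⁻¹ * (k * y * k⁻¹) * k⁻¹⁻¹ = y := by group
      rwa [e] at this)
    refine ⟨y * (k * y * k⁻¹), h.EV c d hcd _ (mul_mem hy h1) (h.idx c d hcd _ hy _ h1 hyV h1V), ?_⟩
    have h2 := h.sq c d hcd y hy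
    calc k * y * k⁻¹ = (y * y) * (k * y * k⁻¹) := by rw [h2, one_mul]
      _ = _ := by group
  -- `e` is centralised by `K`
  have k2 : ∀ k ∈ K, k * e = e * k := by
    intro k hk
    have hk' : r⁻¹ * k * r ∈ K := by
      have := hKn r⁻¹ (R.inv_mem hr) k hk
      rwa [inv_inv] at this
    obtain ⟨g1, hg1, b1⟩ := k1 k hk
    obtain ⟨g2, hg2, b2⟩ := k1 _ hk'
    have hke : k * e * k⁻¹ ∈ E i j := hR.RE k (hKR hk) e he
    have hkf : k * f * k⁻¹ = f :=
      (hR.cx k (hKR hk)).inz (by simp [hci.symm, hdi.symm]) (by simp [hcj.symm, hdj.symm]) hf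
    have hrg : r * g2 * r⁻¹ = g2 :=
      (hR.cx r hr).inz (by simp [hci.symm, hdi.symm]) (by simp [hcj.symm, hdj.symm]) hg2
    have mg1 := h.V_le (hg1.mem h.ev)
    have mg2 := h.V_le (hg2.mem h.ev)
    have mke := Dt.mem_VE hij hke
    have e1 : k * (r * y * r⁻¹) * k⁻¹ = y * e * f * g2 := by
      calc k * (r * y * r⁻¹) * k⁻¹ = r * ((r⁻¹ * k * r) * y * (r⁻¹ * k * r)⁻¹) * r⁻¹ := by group
        _ = (r * y * r⁻¹) * (r * g2 * r⁻¹) := by rw [b2]; group
        _ = _ := by rw [hre, hrg]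
    have e2 : k * (r * y * r⁻¹) * k⁻¹ = y * g1 * (k * e * k⁻¹) * f := by
      calc k * (r * y * r⁻¹) * k⁻¹ = (k * y * k⁻¹) * (k * e * k⁻¹) * (k * f * k⁻¹) := by rw [hre]; group
        _ = _ := by rw [b1, hkf]
    have e3 : (k * e * k⁻¹) * e⁻¹ = g1⁻¹ * g2 := by
      have e4 : g1 * (k * e * k⁻¹) = e * g2 := by
        have e5 : y * (e * (f * g2)) = y * ((g1 * (k * e * k⁻¹)) * f) := by
          calc y * (e * (f * g2)) = y * e * f * g2 := by group
            _ = _ := by rw [← e1, e2]; group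
        have e6 := mul_left_cancel e5
        rw [cc _ mf _ mg2, ← mul_assoc] at e6
        exact (mul_right_cancel e6).symm
      have e7 : k * e * k⁻¹ = g1⁻¹ * (e * g2) := by rw [← e4]; group
      rw [e7, cc _ me _ mg2]
      group
    have h5 : InZ ε {c, d} ((k * e * k⁻¹) * e⁻¹) := by
      have e8 : g1⁻¹ = g1 := inv_eq_of_mul_eq_one_left (h.ev.sq_mem (hg1.mem h.ev))
      rw [e3, e8]
      exact InZ.mul h.ev hg1 hg2
    have h6 : InZ ε {i, j} ((k * e * k⁻¹) * e⁻¹) :=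
      h.EV i j hij _ (mul_mem hke (inv_mem he)) (h5.mem h.ev)
    obtain ⟨m, hm1, hm2, hm3, hm4⟩ := exists_ne h.five i j c d
    have h7 := InZ.inter h.ev (m := m) (by simp [hm3, hm4]) (by simp [hm1, hm2]) h5 h6
    have h8 : ({c, d} ∩ {i, j} : Set (Fin n)) = ∅ := by
      ext x
      simp only [Set.mem_inter_iff, Set.mem_insert_iff, Set.mem_singleton_iff, Set.mem_empty_iff_false, iff_false,
        not_and, not_or]
      rintro (rfl | rfl)
      · exact ⟨hci, hcj⟩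
      · exact ⟨hdi, hdj⟩
    rw [h8] at h7
    have h9 := h7.empty h.ev
    rw [mul_inv_eq_one] at h9
    exact mul_inv_eq_iff_eq_mul.1 h9
  have hyf : y * f ∈ E c d := mul_mem hy (h.ZE c d hcd _ hf)
  have hyfV : y * f ∉ V := mul_V h hh hyV (hf.mem h.ev)
  rcases hKc e he k2 with h1 | h1
  · rw [hre, h1, mul_one]
    exact ⟨hyf, hyfV⟩
  · exfalso
    obtain ⟨x, hx, hxy⟩ := hh.hv c d hcd y hy hyV
    refine light3 h hh hij hcd hci hcj hdi hdj hyf hyfV (r * x) c ?_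
    calc r * x * zz ε c * (r * x)⁻¹ = r * y * r⁻¹ := by rw [← hxy]; group
      _ = y * (e * f) := by rw [hre]; group
      _ = y * (f * rr ε i j) := by rw [cc _ me _ mf, h1]
      _ = _ := by group

/-- **the parabolics permute the letters** -/
theorem perm_R {Φ : (Fin n × Bool → ZMod 2) → G} (l : Lt V Q ε E Φ) {i j : Fin n} {R : Subgroup G}
    (hR : Rp V N ε E i j R) {r : G} (hr : r ∈ R) : ∃ σ, ActD Φ r σ := by
  have hij := hR.ne
  -- heavy elements of `E_ij`
  have hvy : ∀ w, w ∈ E i j → (∃ g k, g * zz ε k * g⁻¹ = w) → Du V ε E w := by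
    rintro w hw ⟨g, k, hg⟩
    by_cases hwV : w ∈ V
    · left
      rw [← hg] at hwV ⊢
      exact hh.fus g k hwV
    · exact Or.inr ⟨i, j, hij, hw, hwV⟩
  have key : ∀ c d, c ≠ d → ∀ u ∈ E c d, u ∉ V → Du V ε E (r * u * r⁻¹) := by
    have a0 : ∀ u ∈ E i j, u ∉ V → Du V ε E (r * u * r⁻¹) := by
      intro u hu huV
      obtain ⟨x, hx, hxu⟩ := hh.hv i j hij u hu huV
      exact hvy _ (hR.RE r hr u hu) ⟨r * x, i, by rw [← hxu]; group⟩
    have a1 : ∀ c, c ≠ i → ∀ u ∈ E i c, u ∉ V → Du V ε E (r * u * r⁻¹) := by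
      intro c hci u hu huV
      by_cases hcj : c = j
      · subst hcj
        exact a0 u hu huV
      · have h1 := mixed h hh hij hci hcj hu huV (hR.f5 c hci hcj r hr u hu huV)
        rcases h1.1 with h2 | h2
        · exact Or.inr ⟨i, c, Ne.symm hci, h2, h1.2⟩
        · exact Or.inr ⟨j, c, Ne.symm hcj, h2, h1.2⟩
    have a2 : ∀ c, c ≠ j → ∀ u ∈ E j c, u ∉ V → Du V ε E (r * u * r⁻¹) := by
      intro c hcj u hu huV
      by_cases hci : c = i
      · subst hci
        rw [h.sym _ _ hij.symm] at hu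
        exact a0 u hu huV
      · have h0 : ∃ e ∈ E j i, ∃ d, InZ ε {c} d ∧ r * u * r⁻¹ = u * e * d := by
          rw [h.sym j i hij.symm]
          exact hR.f5' c hci hcj r hr u hu huV
        have h1 := mixed h hh hij.symm hcj hci hu huV h0
        rcases h1.1 with h2 | h2
        · exact Or.inr ⟨j, c, Ne.symm hcj, h2, h1.2⟩
        · exact Or.inr ⟨i, c, Ne.symm hci, h2, h1.2⟩
    intro c d hcd u hu huV
    by_cases hci : c = i
    · subst hci
      exact a1 d hcd.symm u hu huV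
    by_cases hdi : d = i
    · subst hdi
      rw [h.sym _ _ hcd] at hu
      exact a1 c hcd u hu huV
    by_cases hcj : c = j
    · subst hcj
      exact a2 d hcd.symm u hu huV
    by_cases hdj : d = j
    · subst hdj
      rw [h.sym _ _ hcd] at hu
      exact a2 c hcd u hu huV
    exact Or.inr ⟨c, d, hcd, disj h hh hR hcd hci hcj hdi hdj hr hu huV⟩
  refine l.perm h (fun m => ?_) key
  by_cases hmi : m = i
  · subst hmi
    exact hvy _ (hR.RE r hr _ (h.zzE hij).1) ⟨r, m, rfl⟩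
  by_cases hmj : m = j
  · subst hmj
    exact hvy _ (hR.RE r hr _ (h.zzE hij).2) ⟨r, m, rfl⟩
  · left
    exact ⟨m, (hR.cx r hr).zz hmi hmj⟩

end heavy

end Cfsg.Agent.Omega.NO3S.SN2.VPlus

end
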